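import Mathlib
import Groth.Prelude.Def_SGA3b
import Groth.Agent.Lib.Helper9.VerschFV

/-!
# The `n`-th power endomorphism `powConv` of a commutative Hopf algebra: basic calculus
-/

set_option autoImplicit false

namespace Groth.Agent.H9.MultT

open TensorProduct WithConv SGA3b

universe u

section Basic

variable (R : Type u) [CommRing R] (A : Type u) [CommRing A] [HopfAlgebra R A]

/-- The trivial endomorphism `a ↦ ε(a)·1`. -/
noncomputable def triv : A →ₐ[R] A := (Algebra.ofId R A).comp (Bialgebra.counitAlgHom R A)

theorem triv_apply (a : A) : triv R A a = algebraMap R A (Coalgebra.counit a) := rfl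

theorem powConv_zero : powConv R A 0 = triv R A := by
  unfold powConv
  rw [pow_zero]
  rfl

theorem powConv_one : powConv R A 1 = AlgHom.id R A := by
  unfold powConv
  rw [pow_one]

theorem powConv_succ_apply (n : ℕ) (a : A) :
    powConv R A (n + 1) a =
      Algebra.TensorProduct.lift (powConv R A n) (AlgHom.id R A) (fun _ _ => .all _ _)
        (Coalgebra.comul (R := R) a) := by
  unfold powConv
  rw [pow_succ]
  exact AlgHom.convMul_apply _ _ a

variable {R A}

theorem powConv_of_isGroupLike {g : A} (hg : IsGroupLikeElem R g) (n : ℕ) :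
    powConv R A n g = g ^ n := by
  induction n with
  | zero =>
    rw [powConv_zero, triv_apply, hg.counit_eq_one, map_one, pow_zero]
  | succ n ih =>
    rw [powConv_succ_apply, hg.comul_eq_tmul_self, Algebra.TensorProduct.lift_tmul, ih, pow_succ]
    rfl

variable (R A)

theorem torsionIdeal_eq_bot_iff (n : ℕ) :
    torsionIdeal R A n = ⊥ ↔ powConv R A n = triv R A := by
  unfold torsionIdeal
  rw [Ideal.map_eq_bot_iff_le_ker]
  constructor
  · intro h
    ext a
    have h1 : a - algebraMap R A (Coalgebra.counit a) ∈
        RingHom.ker (Bialgebra.counitAlgHom R A) := by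
      rw [RingHom.mem_ker, map_sub, Bialgebra.counitAlgHom_apply, AlgHom.commutes]
      simp
    have h2 := h h1
    rw [RingHom.mem_ker, map_sub, AlgHom.commutes, sub_eq_zero] at h2
    rw [h2, triv_apply]
  · intro h a ha
    rw [RingHom.mem_ker] at ha ⊢
    rw [h, triv_apply]
    rw [Bialgebra.counitAlgHom_apply] at ha
    rw [ha, map_zero]

theorem torsionIdeal_eq_bot_iff_forall (n : ℕ) :
    torsionIdeal R A n = ⊥ ↔ ∀ a : A, powConv R A n a = algebraMap R A (Coalgebra.counit a) := by
  rw [torsionIdeal_eq_bot_iff]
  constructor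
  · intro h a
    rw [h, triv_apply]
  · intro h
    ext a
    rw [h, triv_apply]

end Basic

section Hom

variable {R : Type u} [CommRing R] {A : Type u} [CommRing A] [HopfAlgebra R A]
  {B : Type u} [CommRing B] [HopfAlgebra R B]

theorem convPow_comp_bialgHom {C : Type*} [CommRing C] [Algebra R C]
    (f : WithConv (B →ₐ[R] C)) (h : A →ₐc[R] B) (n : ℕ) :
    AlgHom.comp (f ^ n).ofConv (h : A →ₐ[R] B) =
      ofConv ((toConv (f.ofConv.comp (h : A →ₐ[R] B))) ^ n) := by
  induction n with
  | zero =>
    rw [pow_zero, pow_zero]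
    ext a
    simp [AlgHom.convOne_def]
  | succ n ih =>
    rw [pow_succ, pow_succ, AlgHom.convMul_comp_bialgHom_distrib, ih, WithConv.toConv_ofConv]

/-- Bialgebra homomorphisms commute with the power endomorphisms. -/
theorem powConv_comp_bialgHom (f : A →ₐc[R] B) (n : ℕ) :
    (powConv R B n).comp (f : A →ₐ[R] B) = (f : A →ₐ[R] B).comp (powConv R A n) := by
  unfold powConv
  rw [convPow_comp_bialgHom, Groth.Agent.H9.VF.comp_convPow]
  rfl

theorem powConv_bialgHom_apply (f : A →ₐc[R] B) (n : ℕ) (a : A) :
    powConv R B n (f a) = f (powConv R A n a) :=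
  DFunLike.congr_fun (powConv_comp_bialgHom f n) a

end Hom

end Groth.Agent.H9.MultT
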