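import Mathlib
import Groth.Prelude.Def_SGA3b
import Groth.Agent.Lib.Helper9.MultT.Pow

/-!
# Descent along the two-step covering `R → R_f → R'` used in `IsMultType`
-/

set_option autoImplicit false

namespace Groth.Agent.H9.MultT

open TensorProduct WithConv SGA3b

universe u

section BaseChange

variable {R : Type u} [CommRing R] {A : Type u} [CommRing A] [HopfAlgebra R A]
variable (S : Type u) [CommRing S] [Algebra R S]

theorem triv_tmul (s : S) (a : A) :
    triv S (S ⊗[R] A) (s ⊗ₜ[R] a) = s ⊗ₜ[R] triv R A a := by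
  rw [triv_apply, triv_apply, TensorProduct.counit_tmul]
  simp [Algebra.algebraMap_eq_smul_one, TensorProduct.smul_tmul', TensorProduct.tmul_smul,
    Algebra.TensorProduct.one_def]

theorem powConv_baseChange_of_triv {n : ℕ} (h : powConv R A n = triv R A) :
    powConv S (S ⊗[R] A) n = triv S (S ⊗[R] A) := by
  apply AlgHom.ext
  intro x
  induction x using TensorProduct.induction_on with
  | zero => simp
  | add x y hx hy => rw [map_add, map_add, hx, hy]
  | tmul s a => rw [Groth.Agent.H9.VF.powConv_tmul, triv_tmul, h]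

variable (R A)

theorem powConv_comp_triv (k : ℕ) : (powConv R A k).comp (triv R A) = triv R A := by
  ext a
  rw [AlgHom.comp_apply, triv_apply, AlgHom.commutes]

variable {R A}

theorem powConv_triv_of_dvd {m n : ℕ} (h : powConv R A m = triv R A) (hd : m ∣ n) :
    powConv R A n = triv R A := by
  obtain ⟨k, rfl⟩ := hd
  rw [mul_comm, Groth.Agent.H9.VF.powConv_mul, h, powConv_comp_triv]

end BaseChange

section Zero

variable {R : Type u} [CommRing R] {N : Type u} [AddCommGroup N] [Module R N]

instance isLocalizedModule_mk (f : R) :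
    IsLocalizedModule (Submonoid.powers f)
      (TensorProduct.mk R (Localization.Away f) N 1) :=
  (isLocalizedModule_iff_isBaseChange (Submonoid.powers f) (Localization.Away f) _).mpr
    (TensorProduct.isBaseChange R N (Localization.Away f))

theorem eq_zero_of_forall_one_tmul {s : Set R} (hs : Ideal.span s = ⊤) (x : N)
    (h : ∀ f ∈ s, (1 : Localization.Away f) ⊗ₜ[R] x = 0) : x = 0 := by
  have : x ∈ (⊥ : Submodule R N) := by
    refine Submodule.mem_of_span_eq_top_of_smul_pow_mem ⊥ s hs x ?_
    rintro ⟨f, hf⟩
    have h1 : TensorProduct.mk R (Localization.Away f) N 1 x = 0 := h f hf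
    rw [IsLocalizedModule.eq_zero_iff (Submonoid.powers f)] at h1
    obtain ⟨⟨_, k, rfl⟩, hk⟩ := h1
    exact ⟨k, hk⟩
  simpa using this

/-- Two-step version. -/
theorem eq_zero_of_local {s : Set R} (hs : Ideal.span s = ⊤) (x : N)
    (h : ∀ f ∈ s, ∃ (R' : Type u) (_ : CommRing R') (_ : Algebra (Localization.Away f) R'),
      Module.FaithfullyFlat (Localization.Away f) R' ∧
        (1 : R') ⊗ₜ[Localization.Away f] ((1 : Localization.Away f) ⊗ₜ[R] x) = 0) : x = 0 := by
  refine eq_zero_of_forall_one_tmul hs x fun f hf => ?_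
  obtain ⟨R', _, _, hff, h0⟩ := h f hf
  exact (Module.FaithfullyFlat.one_tmul_eq_zero_iff (Localization.Away f) _ _).1 h0

theorem finite_of_local {s : Set R} (hs : Ideal.span s = ⊤)
    (h : ∀ f ∈ s, ∃ (R' : Type u) (_ : CommRing R') (_ : Algebra (Localization.Away f) R'),
      Module.FaithfullyFlat (Localization.Away f) R' ∧
        Module.Finite R' (R' ⊗[Localization.Away f] (Localization.Away f ⊗[R] N))) :
    Module.Finite R N := by
  refine Module.Finite.of_localizationSpan' s hs
    (Mₚ := fun g => Localization.Away g.1 ⊗[R] N) (Rₚ := fun g => Localization.Away g.1)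
    (fun g => TensorProduct.mk R (Localization.Away g.1) N 1) ?_
  rintro ⟨f, hf⟩
  obtain ⟨R', _, _, hff, hfin⟩ := h f hf
  exact Module.Finite.of_finite_tensorProduct_of_faithfullyFlat R'

end Zero

end Groth.Agent.H9.MultT
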