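import Mathlib
import Groth.Prelude.Def_SGA3b
import Groth.Agent.Lib.Helper9.MultT.Local
import Groth.Agent.Lib.Helper9.MT.BaseChange

/-!
# One-level form of the coverings in `IsMultType`

`IsFFOver f T`: the `R`-algebra `T` is (compatibly) a faithfully flat `R_f`-algebra.
-/

set_option autoImplicit false

namespace Groth.Agent.H9.MultT

open TensorProduct SGA3b

universe u

section FFOver

variable {R : Type u} [CommRing R]

/-- The `R`-algebra `T` is, compatibly, a faithfully flat algebra over `R_f`. -/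
def IsFFOver (f : R) (T : Type u) [CommRing T] [Algebra R T] : Prop :=
  ∃ (_ : Algebra (Localization.Away f) T), IsScalarTower R (Localization.Away f) T ∧
    Module.FaithfullyFlat (Localization.Away f) T

variable {f : R} {T : Type u} [CommRing T] [Algebra R T]

theorem IsFFOver.flat (h : IsFFOver f T) : Module.Flat R T := by
  obtain ⟨_, _, hff⟩ := h
  exact Module.Flat.trans R (Localization.Away f) T

theorem IsFFOver.mem_of_mem_map (h : IsFFOver f T) (I : Ideal R) (x : R)
    (hx : algebraMap R T x ∈ I.map (algebraMap R T)) : ∃ n : ℕ, f ^ n * x ∈ I := by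
  obtain ⟨_, _, hff⟩ := h
  rw [IsScalarTower.algebraMap_eq R (Localization.Away f) T, ← Ideal.map_map,
    RingHom.comp_apply, ← Ideal.mem_comap, Ideal.comap_map_eq_self_of_faithfullyFlat,
    IsLocalization.algebraMap_mem_map_algebraMap_iff (Submonoid.powers f)] at hx
  obtain ⟨_, ⟨n, rfl⟩, hn⟩ := hx
  exact ⟨n, hn⟩

theorem IsFFOver.fg_of_fg_map (h : IsFFOver f T) (I : Ideal R)
    (hI : (I.map (algebraMap R T)).FG) : (I.map (algebraMap R (Localization.Away f))).FG := by
  obtain ⟨_, _, hff⟩ := h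
  rw [IsScalarTower.algebraMap_eq R (Localization.Away f) T, ← Ideal.map_map] at hI
  exact Ideal.FG.of_FG_map_of_faithfullyFlat hI

end FFOver

section Global

variable {R : Type u} [CommRing R]

theorem mem_of_cover {s : Set R} (hs : Ideal.span s = ⊤) (I : Ideal R) (x : R)
    (h : ∀ f ∈ s, ∃ (T : Type u) (_ : CommRing T) (_ : Algebra R T), IsFFOver f T ∧
      algebraMap R T x ∈ I.map (algebraMap R T)) : x ∈ I := by
  refine Submodule.mem_of_span_eq_top_of_smul_pow_mem I s hs x ?_
  rintro ⟨f, hf⟩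
  obtain ⟨T, _, _, hT, hx⟩ := h f hf
  obtain ⟨n, hn⟩ := hT.mem_of_mem_map I x hx
  exact ⟨n, hn⟩

theorem eq_zero_of_cover {s : Set R} (hs : Ideal.span s = ⊤) (x : R)
    (h : ∀ f ∈ s, ∃ (T : Type u) (_ : CommRing T) (_ : Algebra R T), IsFFOver f T ∧
      algebraMap R T x = 0) : x = 0 := by
  have : x ∈ (⊥ : Ideal R) := by
    refine mem_of_cover hs ⊥ x fun f hf => ?_
    obtain ⟨T, _, _, hT, hx⟩ := h f hf
    exact ⟨T, inferInstance, inferInstance, hT, by rw [hx]; exact zero_mem _⟩
  simpa using this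

theorem fg_of_cover {s : Set R} (hs : Ideal.span s = ⊤) (I : Ideal R)
    (h : ∀ f ∈ s, ∃ (T : Type u) (_ : CommRing T) (_ : Algebra R T), IsFFOver f T ∧
      (I.map (algebraMap R T)).FG) : I.FG := by
  refine Ideal.fg_of_localizationSpan s hs ?_
  rintro ⟨f, hf⟩
  obtain ⟨T, _, _, hT, hI⟩ := h f hf
  exact hT.fg_of_fg_map I hI

end Global

section MultType

variable {R : Type u} [CommRing R] {A : Type u} [CommRing A] [HopfAlgebra R A]

/-- One-level form of `IsMultType`. -/
theorem exists_cover_of_isMultType (h : IsMultType R A) :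
    ∃ s : Set R, Ideal.span s = ⊤ ∧ ∀ f ∈ s, ∃ (T : Type u) (_ : CommRing T) (_ : Algebra R T),
      IsFFOver f T ∧ IsDiag T (T ⊗[R] A) := by
  obtain ⟨s, hs, hloc⟩ := h
  refine ⟨s, hs, fun f hf => ?_⟩
  obtain ⟨R', _, _, hff, M, _, ⟨e⟩⟩ := hloc f hf
  let _ : Algebra R R' :=
    ((algebraMap (Localization.Away f) R').comp (algebraMap R (Localization.Away f))).toAlgebra
  have : IsScalarTower R (Localization.Away f) R' := IsScalarTower.of_algebraMap_eq fun _ => rfl
  refine ⟨R', inferInstance, inferInstance, ⟨inferInstance, inferInstance, hff⟩, M, inferInstance,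
    ⟨(Groth.Agent.H9.MT.cancelBC R (Localization.Away f) R' A).symm.trans e⟩⟩

end MultType

end Groth.Agent.H9.MultT
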