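import Mathlib
import Groth.Prelude.Def_SGA3b
import Groth.Agent.Lib.Helper9.MultT.Cover

set_option autoImplicit false
set_option linter.unusedSectionVars false

namespace Groth.Agent.H9.MultT

open TensorProduct SGA3b

universe u


attribute [local instance] Classical.propDecidable

section GrpLike

variable {T : Type u} [CommRing T] {M : Type u} [CommGroup M]

/-- coefficient functional -/
noncomputable def tau (a : M) : MonoidAlgebra T M →ₗ[T] T :=
  (Finsupp.lapply a) ∘ₗ (MonoidAlgebra.coeffLinearEquiv (M := M) (S := T) T).toLinearMap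

theorem tau_apply (a : M) (x : MonoidAlgebra T M) : tau a x = x.coeff a := rfl

theorem tau_single (a m : M) (r : T) :
    tau a (MonoidAlgebra.single m r) = if m = a then r else 0 := by
  rw [tau_apply, MonoidAlgebra.coeff_single, Finsupp.single_apply]

/-- the functional `τ_a ⊗ τ_b` -/
noncomputable def tau2 (a b : M) : MonoidAlgebra T M ⊗[T] MonoidAlgebra T M →ₗ[T] T :=
  (TensorProduct.lid T T).toLinearMap ∘ₗ TensorProduct.map (tau a) (tau b)

theorem tau2_tmul (a b : M) (x y : MonoidAlgebra T M) :
    tau2 a b (x ⊗ₜ[T] y) = x.coeff a * y.coeff b := by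
  simp [tau2, tau_apply]

theorem tau2_comul (a b : M) (x : MonoidAlgebra T M) :
    tau2 a b (Coalgebra.comul (R := T) x) = if a = b then x.coeff a else 0 := by
  induction x using MonoidAlgebra.induction_linear with
  | zero => simp
  | add x y hx hy =>
    rw [map_add, map_add, hx, hy]
    split_ifs <;> simp
  | single m r =>
    rw [MonoidAlgebra.comul_single, CommSemiring.comul_apply, TensorProduct.map_tmul]
    change tau2 a b (MonoidAlgebra.single m 1 ⊗ₜ[T] MonoidAlgebra.single m r) = _
    rw [tau2_tmul, MonoidAlgebra.coeff_single, MonoidAlgebra.coeff_single, Finsupp.single_apply,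
      Finsupp.single_apply]
    by_cases hab : a = b
    · subst hab
      by_cases hm : m = a <;> simp [hm]
    · by_cases hm : m = a
      · subst hm
        simp [hab]
      · simp [hm, hab]

theorem coeff_mul_coeff_of_isGroupLike {G : MonoidAlgebra T M} (hG : IsGroupLikeElem T G)
    (a b : M) : G.coeff a * G.coeff b = if a = b then G.coeff a else 0 := by
  rw [← tau2_comul, hG.comul_eq_tmul_self, tau2_tmul]

theorem coeff_one_smul_of_isGroupLike {G : MonoidAlgebra T M} (hG : IsGroupLikeElem T G) :
    G.coeff 1 • (G - 1) = 0 := by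
  rw [smul_sub, sub_eq_zero]
  apply MonoidAlgebra.coeff_injective
  ext a
  rw [MonoidAlgebra.coeff_smul, MonoidAlgebra.coeff_smul, Finsupp.smul_apply, Finsupp.smul_apply,
    smul_eq_mul, smul_eq_mul, coeff_mul_coeff_of_isGroupLike hG, MonoidAlgebra.one_def,
    MonoidAlgebra.coeff_single, Finsupp.single_apply]
  split_ifs <;> simp

theorem eq_mul_coeff_one_of_smul_eq_zero {G : MonoidAlgebra T M} {r : T}
    (h : r • (G - 1) = 0) : r = r * G.coeff 1 := by
  have h1 := congrArg (fun x : MonoidAlgebra T M => x.coeff 1) h
  simp only [MonoidAlgebra.coeff_smul, MonoidAlgebra.coeff_sub, MonoidAlgebra.coeff_zero,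
    Finsupp.smul_apply, Finsupp.sub_apply, Finsupp.zero_apply, MonoidAlgebra.coeff_one_one,
    smul_eq_mul, mul_sub, mul_one] at h1
  exact (sub_eq_zero.1 h1).symm

theorem isIdempotentElem_coeff_one {G : MonoidAlgebra T M} (hG : IsGroupLikeElem T G) :
    IsIdempotentElem (G.coeff 1) := by
  have := coeff_mul_coeff_of_isGroupLike hG 1 1
  rwa [if_pos rfl] at this

end GrpLike

section Ann

variable {T : Type u} [CommRing T] {B : Type u} [CommRing B] [HopfAlgebra T B]
  {M : Type u} [CommGroup M]

/-- The annihilator of `G - 1`, for `G` group-like in a diagonalisable Hopf algebra, is generated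
by an idempotent. -/
theorem ker_toSpanSingleton_of_isGroupLike (e : B ≃ₐc[T] MonoidAlgebra T M) {G : B}
    (hG : IsGroupLikeElem T G) :
    LinearMap.ker (LinearMap.toSpanSingleton T B (G - 1)) = Ideal.span {(e G).coeff 1} := by
  have hG' : IsGroupLikeElem T (e G) := hG.map e
  apply le_antisymm
  · intro r hr
    rw [LinearMap.mem_ker, LinearMap.toSpanSingleton_apply] at hr
    have h1 : r • (e G - 1) = 0 := by
      rw [← map_one e, ← map_sub e, ← map_smul e, hr, map_zero e]
    rw [Ideal.mem_span_singleton']
    exact ⟨r, (eq_mul_coeff_one_of_smul_eq_zero h1).symm⟩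
  · rw [Ideal.span_le, Set.singleton_subset_iff, SetLike.mem_coe, LinearMap.mem_ker,
      LinearMap.toSpanSingleton_apply]
    apply EquivLike.injective e
    rw [map_smul e, map_sub e, map_one e, map_zero e]
    exact coeff_one_smul_of_isGroupLike hG'

end Ann

end Groth.Agent.H9.MultT
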