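import Mathlib
import Groth.Prelude.Def_SGA3b
import Groth.Agent.Lib.Helper9.MultT.GroupLike

/-!
# Annihilators of `g - 1`, `g` group-like, in a group of multiplicative type over a connected base
-/

set_option autoImplicit false
set_option linter.unusedSectionVars false

namespace Groth.Agent.H9.MultT

open TensorProduct SGA3b

universe u

section FlatAnn

variable {R : Type u} [CommRing R] (T : Type u) [CommRing T] [Algebra R T]
  {C : Type u} [AddCommGroup C] [Module R C]

/-- Flat base change of the annihilator of an element. -/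
theorem ker_toSpanSingleton_baseChange [Module.Flat R T] (z : C) :
    LinearMap.ker (LinearMap.toSpanSingleton T (T ⊗[R] C) ((1 : T) ⊗ₜ[R] z)) =
      Ideal.map (algebraMap R T) (LinearMap.ker (LinearMap.toSpanSingleton R C z)) := by
  apply le_antisymm
  · intro t ht
    rw [LinearMap.mem_ker, LinearMap.toSpanSingleton_apply] at ht
    have h1 : t ⊗ₜ[R] (1 : R) ∈
        LinearMap.ker (AlgebraTensorModule.lTensor T T (LinearMap.toSpanSingleton R C z)) := by
      rw [LinearMap.mem_ker, AlgebraTensorModule.lTensor_tmul, LinearMap.toSpanSingleton_apply,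
        one_smul]
      rw [TensorProduct.smul_tmul', smul_eq_mul, mul_one] at ht
      exact ht
    rw [Module.Flat.ker_lTensor_eq] at h1
    obtain ⟨y, hy⟩ := h1
    have h2 : ∀ y : T ⊗[R] LinearMap.ker (LinearMap.toSpanSingleton R C z),
        AlgebraTensorModule.rid R T T (AlgebraTensorModule.lTensor T T
          (LinearMap.ker (LinearMap.toSpanSingleton R C z)).subtype y) ∈
        Ideal.map (algebraMap R T) (LinearMap.ker (LinearMap.toSpanSingleton R C z)) := by
      intro y
      induction y using TensorProduct.induction_on with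
      | zero => simp
      | add x y hx hy => rw [map_add, map_add]; exact Ideal.add_mem _ hx hy
      | tmul t' a =>
        rw [AlgebraTensorModule.lTensor_tmul, AlgebraTensorModule.rid_tmul, Submodule.subtype_apply,
          Algebra.smul_def]
        exact Ideal.mul_mem_right _ _ (Ideal.mem_map_of_mem _ a.2)
    have h3 := h2 y
    rw [hy, AlgebraTensorModule.rid_tmul, one_smul] at h3
    exact h3
  · rw [Ideal.map_le_iff_le_comap]
    intro r hr
    rw [LinearMap.mem_ker, LinearMap.toSpanSingleton_apply] at hr
    rw [Ideal.mem_comap, LinearMap.mem_ker, LinearMap.toSpanSingleton_apply,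
      TensorProduct.smul_tmul', smul_eq_mul, mul_one, Algebra.algebraMap_eq_smul_one,
      TensorProduct.smul_tmul, hr, TensorProduct.tmul_zero]

end FlatAnn

section GroupLikeBC

variable {R : Type u} [CommRing R] (T : Type u) [CommRing T] [Algebra R T]
  {C : Type u} [CommRing C] [HopfAlgebra R C]

theorem isGroupLikeElem_one_tmul {g : C} (hg : IsGroupLikeElem R g) :
    IsGroupLikeElem T ((1 : T) ⊗ₜ[R] g) where
  counit_eq_one := by
    rw [TensorProduct.counit_tmul, hg.counit_eq_one]
    simp
  comul_eq_tmul_self := by
    rw [Groth.Agent.H9.VF.comul_one_tmul, hg.comul_eq_tmul_self]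
    simp

end GroupLikeBC

section Connected

variable {R : Type u} [CommRing R] {C : Type u} [CommRing C] [HopfAlgebra R C]

/-- For a group of multiplicative type, the annihilator of `G - 1` (`G` group-like) is a finitely
generated idempotent ideal. -/
theorem exists_idempotent_ker_toSpanSingleton (h : IsMultType R C) {G : C}
    (hG : IsGroupLikeElem R G) :
    ∃ e : R, IsIdempotentElem e ∧
      LinearMap.ker (LinearMap.toSpanSingleton R C (G - 1)) = Ideal.span {e} := by
  obtain ⟨s, hs, hloc⟩ := exists_cover_of_isMultType h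
  set I : Ideal R := LinearMap.ker (LinearMap.toSpanSingleton R C (G - 1)) with hI
  have key : ∀ f ∈ s, ∃ (T : Type u) (_ : CommRing T) (_ : Algebra R T), IsFFOver f T ∧
      ∃ ε : T, IsIdempotentElem ε ∧ I.map (algebraMap R T) = Ideal.span {ε} := by
    intro f hf
    obtain ⟨T, _, _, hT, M, _, ⟨e⟩⟩ := hloc f hf
    have := hT.flat
    have hG' := isGroupLikeElem_one_tmul T hG
    refine ⟨T, inferInstance, inferInstance, hT, (e ((1 : T) ⊗ₜ[R] G)).coeff 1,
      isIdempotentElem_coeff_one (hG'.map e), ?_⟩
    rw [hI, ← ker_toSpanSingleton_baseChange, TensorProduct.tmul_sub,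
      ← Algebra.TensorProduct.one_def, ker_toSpanSingleton_of_isGroupLike e hG']
  have hfg : I.FG := by
    refine fg_of_cover hs I fun f hf => ?_
    obtain ⟨T, _, _, hT, ε, hε, hmap⟩ := key f hf
    exact ⟨T, inferInstance, inferInstance, hT, by rw [hmap]; exact ⟨{ε}, by simp⟩⟩
  have hidem : IsIdempotentElem I := by
    apply le_antisymm Ideal.mul_le_right
    intro x hx
    refine mem_of_cover hs (I * I) x fun f hf => ?_
    obtain ⟨T, _, _, hT, ε, hε, hmap⟩ := key f hf
    refine ⟨T, inferInstance, inferInstance, hT, ?_⟩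
    rw [Ideal.map_mul, hmap, Ideal.span_singleton_mul_span_singleton, hε.eq, ← hmap]
    exact Ideal.mem_map_of_mem _ hx
  obtain ⟨e, he, heq⟩ := (Ideal.isIdempotentElem_iff_of_fg I hfg).1 hidem
  exact ⟨e, he, heq⟩

theorem ker_toSpanSingleton_eq_bot (hconn : ∀ e : R, IsIdempotentElem e → e = 0 ∨ e = 1)
    (h : IsMultType R C) {G : C} (hG : IsGroupLikeElem R G) (hne : G ≠ 1) :
    LinearMap.ker (LinearMap.toSpanSingleton R C (G - 1)) = ⊥ := by
  obtain ⟨e, he, heq⟩ := exists_idempotent_ker_toSpanSingleton h hG
  rcases hconn e he with rfl | rfl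
  · rw [heq]
    simp
  · exfalso
    apply hne
    have h1 : (1 : R) ∈ LinearMap.ker (LinearMap.toSpanSingleton R C (G - 1)) := by
      rw [heq]
      exact Ideal.subset_span rfl
    rw [LinearMap.mem_ker, LinearMap.toSpanSingleton_apply, one_smul, sub_eq_zero] at h1
    exact h1

end Connected

end Groth.Agent.H9.MultT
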