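import Mathlib
import Groth.Prelude.Def_SGA3b
import Groth.Agent.Lib.Helper9.MultT.Ann

/-!
# Closed subgroups of multiplicative type of a diagonalisable group over a connected base
-/

set_option autoImplicit false
set_option linter.unusedSectionVars false

namespace Groth.Agent.H9.MultT

open TensorProduct SGA3b

universe u

section Lift

variable {R : Type u} [CommRing R] {C : Type u} [CommRing C] [HopfAlgebra R C]
  {Q : Type u} [CommGroup Q]

/-- A monoid homomorphism into the group-like elements induces a bialgebra homomorphism. -/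
noncomputable def liftBialg (γ : Q →* C) (hγ : ∀ q, IsGroupLikeElem R (γ q)) :
    MonoidAlgebra R Q →ₐc[R] C :=
  BialgHom.ofAlgHom (MonoidAlgebra.lift R C Q γ)
    (by
      refine MonoidAlgebra.algHom_ext (fun q => ?_) ?_
      · simp [(hγ q).counit_eq_one]
      · apply AlgHom.ext
        intro r
        simp)
    (by
      refine MonoidAlgebra.algHom_ext (fun q => ?_) ?_
      · simp [(hγ q).comul_eq_tmul_self]
      · apply AlgHom.ext
        intro r
        simp [Algebra.TensorProduct.one_def])

theorem liftBialg_single (γ : Q →* C) (hγ : ∀ q, IsGroupLikeElem R (γ q)) (q : Q) (r : R) :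
    liftBialg γ hγ (MonoidAlgebra.single q r) = r • γ q :=
  MonoidAlgebra.lift_single γ q r

end Lift

section Main

variable {R : Type u} [CommRing R] {A : Type u} [CommRing A] [HopfAlgebra R A]

theorem isDiag_quotient_of_isMultType (hconn : ∀ e : R, IsIdempotentElem e → e = 0 ∨ e = 1)
    {M : Type u} [CommGroup M] (e₀ : A ≃ₐc[R] MonoidAlgebra R M)
    (J : Ideal A) [J.IsHopfIdeal R] (hH : IsMultType R (A ⧸ J)) : IsDiag R (A ⧸ J) := by
  classical
  let φ : MonoidAlgebra R M →ₐc[R] A ⧸ J :=
    (Bialgebra.Quotient.mkBialgHom J).comp (e₀.symm : MonoidAlgebra R M →ₐc[R] A)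
  have hφsurj : Function.Surjective φ := by
    intro y
    obtain ⟨a, rfl⟩ := Ideal.Quotient.mk_surjective y
    exact ⟨e₀ a, by simp [φ]⟩
  let g : M →* A ⧸ J :=
    ((φ : MonoidAlgebra R M →ₐ[R] A ⧸ J) : MonoidAlgebra R M →* A ⧸ J).comp (MonoidAlgebra.of R M)
  have hg : ∀ m, IsGroupLikeElem R (g m) := fun m =>
    (MonoidAlgebra.isGroupLikeElem_of (R := R) (A := R) m).map φ
  let N : Subgroup M := g.ker
  let gbar : M ⧸ N →* A ⧸ J := QuotientGroup.lift N g (fun m hm => hm)
  have hgbar : ∀ q, IsGroupLikeElem R (gbar q) := by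
    intro q
    obtain ⟨m, rfl⟩ := QuotientGroup.mk_surjective q
    exact hg m
  let ψ := liftBialg gbar hgbar
  have hφsingle : ∀ (m : M) (r : R), φ (MonoidAlgebra.single m r) = r • g m := by
    intro m r
    have h : (MonoidAlgebra.single m r : MonoidAlgebra R M) = r • MonoidAlgebra.single m 1 := by
      rw [MonoidAlgebra.smul_single, smul_eq_mul, mul_one]
    rw [h, map_smul]
    rfl
  have hψφ : ∀ x, ∃ y, ψ y = φ x := by
    intro x
    induction x using MonoidAlgebra.induction_linear with
    | zero => exact ⟨0, by simp⟩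
    | add x y hx hy =>
      obtain ⟨x', hx'⟩ := hx
      obtain ⟨y', hy'⟩ := hy
      exact ⟨x' + y', by rw [map_add, map_add, hx', hy']⟩
    | single m r =>
      refine ⟨MonoidAlgebra.single (QuotientGroup.mk m) r, ?_⟩
      rw [liftBialg_single, hφsingle]
      rfl
  have hψsurj : Function.Surjective ψ := by
    intro y
    obtain ⟨x, rfl⟩ := hφsurj y
    exact hψφ x
  have hψinj : Function.Injective ψ := by
    rw [injective_iff_map_eq_zero]
    intro x hx
    apply MonoidAlgebra.coeff_injective
    ext c₀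
    rw [MonoidAlgebra.coeff_zero, Finsupp.zero_apply]
    obtain ⟨s, hs, hloc⟩ := exists_cover_of_isMultType hH
    refine eq_zero_of_cover hs _ fun f hf => ?_
    obtain ⟨T, _, _, hT, M', _, ⟨e'⟩⟩ := hloc f hf
    refine ⟨T, inferInstance, inferInstance, hT, ?_⟩
    have := hT.flat
    let Γ : M ⧸ N → MonoidAlgebra T M' := fun c => e' ((1 : T) ⊗ₜ[R] gbar c)
    have hΓmul : ∀ c c', Γ (c * c') = Γ c * Γ c' := by
      intro c c'
      simp only [Γ]
      rw [map_mul gbar, ← map_mul e', Algebra.TensorProduct.tmul_mul_tmul, one_mul]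
    have hΓone : Γ 1 = 1 := by
      simp only [Γ]
      rw [map_one gbar, ← Algebra.TensorProduct.one_def, map_one e']
    have hΓcoeff : ∀ c, c ≠ 1 → (Γ c).coeff 1 = 0 := by
      intro c hc
      obtain ⟨m, rfl⟩ := QuotientGroup.mk_surjective c
      have hm : g m ≠ 1 := fun h => hc ((QuotientGroup.eq_one_iff m).2 h)
      have h1 := ker_toSpanSingleton_eq_bot hconn hH (hg m) hm
      have h2 := ker_toSpanSingleton_baseChange (R := R) T (g m - 1)
      rw [h1, Ideal.map_bot, TensorProduct.tmul_sub, ← Algebra.TensorProduct.one_def,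
        ker_toSpanSingleton_of_isGroupLike e' (isGroupLikeElem_one_tmul T (hg m))] at h2
      exact Ideal.span_singleton_eq_bot.1 h2
    have key : ∀ x : MonoidAlgebra R (M ⧸ N), algebraMap R T (x.coeff c₀) =
        (Γ c₀⁻¹ * e' ((1 : T) ⊗ₜ[R] ψ x)).coeff 1 := by
      intro x
      induction x using MonoidAlgebra.induction_linear with
      | zero => simp
      | add x y hx hy =>
        rw [MonoidAlgebra.coeff_add, Finsupp.add_apply, map_add, hx, hy, map_add ψ,
          TensorProduct.tmul_add, map_add e', mul_add, MonoidAlgebra.coeff_add, Finsupp.add_apply]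
      | single c r =>
        rw [liftBialg_single, MonoidAlgebra.coeff_single, Finsupp.single_apply]
        have h3 : e' ((1 : T) ⊗ₜ[R] (r • gbar c)) = algebraMap R T r • Γ c := by
          rw [TensorProduct.tmul_smul, ← algebraMap_smul T r ((1 : T) ⊗ₜ[R] gbar c), map_smul e']
        rw [h3, mul_smul_comm, ← hΓmul, MonoidAlgebra.coeff_smul, Finsupp.smul_apply, smul_eq_mul]
        by_cases hc : c = c₀
        · subst hc
          rw [if_pos rfl, inv_mul_cancel, hΓone, MonoidAlgebra.coeff_one_one, mul_one]
        · have hne : c₀⁻¹ * c ≠ 1 := by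
            intro h
            exact hc (inv_mul_eq_one.1 h).symm
          rw [if_neg hc, map_zero, hΓcoeff _ hne, mul_zero]
    rw [key x, hx, TensorProduct.tmul_zero, map_zero e', mul_zero, MonoidAlgebra.coeff_zero,
      Finsupp.zero_apply]
  exact ⟨M ⧸ N, inferInstance, ⟨(BialgEquiv.ofBijective ψ ⟨hψinj, hψsurj⟩).symm⟩⟩

end Main

end Groth.Agent.H9.MultT
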