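import Mathlib
import Groth.Prelude.Def_SGA3b
import Groth.Agent.Lib.Helper9.MultT.Local

/-!
# The power endomorphisms of a diagonalisable Hopf algebra
-/

set_option autoImplicit false

namespace Groth.Agent.H9.MultT

open TensorProduct WithConv SGA3b

universe u

section Equiv

variable {T : Type u} [CommRing T] {B : Type u} [CommRing B] [HopfAlgebra T B]
  {C : Type u} [CommRing C] [HopfAlgebra T C]

theorem powConv_eq_triv_of_bialgEquiv (e : B ≃ₐc[T] C) {n : ℕ}
    (h : powConv T B n = triv T B) : powConv T C n = triv T C := by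
  apply AlgHom.ext
  intro y
  obtain ⟨x, rfl⟩ := e.surjective y
  have h1 : powConv T C n (e x) = e (powConv T B n x) :=
    powConv_bialgHom_apply (e : B →ₐc[T] C) n x
  have h3 : Coalgebra.counit (R := T) (e x) = Coalgebra.counit (R := T) x :=
    CoalgHomClass.counit_comp_apply e x
  have h4 : e (algebraMap T B (Coalgebra.counit (R := T) x)) =
      algebraMap T C (Coalgebra.counit (R := T) x) :=
    AlgHom.commutes ((e : B →ₐc[T] C) : B →ₐ[T] C) _
  change powConv T C n (e x) = triv T C (e x)
  rw [h1, h, triv_apply, triv_apply, h3, h4]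

theorem powConv_eq_triv_iff_of_bialgEquiv (e : B ≃ₐc[T] C) (n : ℕ) :
    powConv T B n = triv T B ↔ powConv T C n = triv T C :=
  ⟨powConv_eq_triv_of_bialgEquiv e, powConv_eq_triv_of_bialgEquiv e.symm⟩

end Equiv

section MonAlg

variable (T : Type u) [CommRing T] (M : Type u) [CommGroup M]

theorem powConv_single (n : ℕ) (m : M) (r : T) :
    powConv T (MonoidAlgebra T M) n (MonoidAlgebra.single m r) =
      MonoidAlgebra.single (m ^ n) r := by
  have h : (MonoidAlgebra.single m r : MonoidAlgebra T M) =
      r • MonoidAlgebra.single m 1 := by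
    rw [MonoidAlgebra.smul_single, smul_eq_mul, mul_one]
  rw [h, map_smul, powConv_of_isGroupLike (MonoidAlgebra.isGroupLikeElem_single_one m),
    MonoidAlgebra.single_pow, one_pow, MonoidAlgebra.smul_single, smul_eq_mul, mul_one]

theorem triv_single (m : M) (r : T) :
    triv T (MonoidAlgebra T M) (MonoidAlgebra.single m r) = MonoidAlgebra.single 1 r := by
  rw [triv_apply, MonoidAlgebra.counit_single]
  rfl

variable {T M}

theorem powConv_monAlg_eq_triv_of_forall {n : ℕ} (h : ∀ m : M, m ^ n = 1) :
    powConv T (MonoidAlgebra T M) n = triv T (MonoidAlgebra T M) := by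
  refine MonoidAlgebra.algHom_ext (fun m => ?_) ?_
  · rw [powConv_single, triv_single, h]
  · apply AlgHom.ext
    intro r
    rw [AlgHom.comp_apply, AlgHom.comp_apply]
    change powConv T (MonoidAlgebra T M) n (MonoidAlgebra.single 1 r) =
      triv T (MonoidAlgebra T M) (MonoidAlgebra.single 1 r)
    rw [powConv_single, triv_single, one_pow]

theorem forall_pow_of_powConv_monAlg [Nontrivial T] {n : ℕ}
    (h : powConv T (MonoidAlgebra T M) n = triv T (MonoidAlgebra T M)) (m : M) : m ^ n = 1 := by
  have h1 := DFunLike.congr_fun h (MonoidAlgebra.single m 1)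
  rw [powConv_single, triv_single] at h1
  exact MonoidAlgebra.of_injective h1

end MonAlg

section Diag

variable {T : Type u} [CommRing T] {B : Type u} [CommRing B] [HopfAlgebra T B]
  {M : Type u} [CommGroup M]

theorem exists_powConv_of_finite (e : B ≃ₐc[T] MonoidAlgebra T M) [Module.Finite T B] :
    ∃ n : ℕ, 0 < n ∧ powConv T B n = triv T B := by
  rcases subsingleton_or_nontrivial T with hT | hT
  · refine ⟨1, one_pos, ?_⟩
    have : Subsingleton B := Module.subsingleton T B
    apply AlgHom.ext
    intro x
    exact Subsingleton.elim _ _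
  · have hfin : Module.Finite T (MonoidAlgebra T M) :=
      Module.Finite.equiv (e : B ≃ₗ[T] MonoidAlgebra T M)
    have hM : Finite M :=
      Module.Finite.finite_basis
        (Module.Basis.ofRepr (MonoidAlgebra.coeffLinearEquiv (M := M) (S := T) T))
    refine ⟨Nat.card M, Nat.card_pos, ?_⟩
    rw [powConv_eq_triv_iff_of_bialgEquiv e]
    exact powConv_monAlg_eq_triv_of_forall fun m => pow_card_eq_one'

theorem finite_of_powConv (e : B ≃ₐc[T] MonoidAlgebra T M) (hft : Algebra.FiniteType T B)
    {n : ℕ} (hn : 0 < n) (h : powConv T B n = triv T B) : Module.Finite T B := by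
  rcases subsingleton_or_nontrivial T with hT | hT
  · have : Subsingleton B := Module.subsingleton T B
    infer_instance
  · have hft' : Algebra.FiniteType T (MonoidAlgebra T M) :=
      hft.equiv (e : B ≃ₐ[T] MonoidAlgebra T M)
    have hfg : Group.FG M := MonoidAlgebra.finiteType_iff_group_fg.1 hft'
    have h' := (powConv_eq_triv_iff_of_bialgEquiv e n).1 h
    have htors : IsMulTorsion M := fun m =>
      isOfFinOrder_iff_pow_eq_one.2 ⟨n, hn, forall_pow_of_powConv_monAlg h' m⟩
    have hM : Finite M := CommGroup.finite_of_fg_isMulTorsion M htors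
    have hfin : Module.Finite T (MonoidAlgebra T M) :=
      Module.Finite.equiv (MonoidAlgebra.coeffLinearEquiv (M := M) (S := T) T).symm
    exact Module.Finite.equiv (e : B ≃ₗ[T] MonoidAlgebra T M).symm

end Diag

end Groth.Agent.H9.MultT
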