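import Mathlib
import Groth.Prelude.Def_SGA3b
import Groth.Agent.Lib.Helper9.MultT.Diag

/-!
# A group of multiplicative type and of finite type is finite iff it is killed by some `n > 0`
-/

set_option autoImplicit false

namespace Groth.Agent.H9.MultT

open TensorProduct WithConv SGA3b

universe u

section Descent

variable {R : Type u} [CommRing R] {A : Type u} [CommRing A] [HopfAlgebra R A]

theorem powConv_triv_of_faithfullyFlat (S : Type u) [CommRing S] [Algebra R S]
    [Module.FaithfullyFlat R S] {n : ℕ}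
    (h : powConv S (S ⊗[R] A) n = triv S (S ⊗[R] A)) : powConv R A n = triv R A := by
  apply AlgHom.ext
  intro a
  have h1 := DFunLike.congr_fun h ((1 : S) ⊗ₜ[R] a)
  rw [Groth.Agent.H9.VF.powConv_tmul, triv_tmul, ← sub_eq_zero, ← TensorProduct.tmul_sub,
    Module.FaithfullyFlat.one_tmul_eq_zero_iff] at h1
  exact sub_eq_zero.1 h1

end Descent

section Main

variable {R : Type u} [CommRing R] {A : Type u} [CommRing A] [HopfAlgebra R A]

theorem finite_iff (hft : Algebra.FiniteType R A) (h : IsMultType R A) :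
    Module.Finite R A ↔ ∃ n : ℕ, 0 < n ∧ torsionIdeal R A n = ⊥ := by
  obtain ⟨s, hs, hloc⟩ := h
  constructor
  · intro hfin
    have stepA : ∀ f ∈ s, ∃ n : ℕ, 0 < n ∧
        powConv (Localization.Away f) (Localization.Away f ⊗[R] A) n =
          triv (Localization.Away f) (Localization.Away f ⊗[R] A) := by
      intro f hf
      obtain ⟨R', _, _, hff, M, _, ⟨e⟩⟩ := hloc f hf
      obtain ⟨n, hn, hn'⟩ := exists_powConv_of_finite e
      exact ⟨n, hn, powConv_triv_of_faithfullyFlat R' hn'⟩
    obtain ⟨t, hts, ht⟩ := (Ideal.span_eq_top_iff_finite s).1 hs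
    choose! n hn hn' using stepA
    refine ⟨∏ f ∈ t, n f, Finset.prod_pos fun f hf => hn f (hts hf), ?_⟩
    rw [torsionIdeal_eq_bot_iff]
    apply AlgHom.ext
    intro a
    rw [← sub_eq_zero]
    refine eq_zero_of_forall_one_tmul ht _ fun f hf => ?_
    have h1 := powConv_triv_of_dvd (hn' f (hts hf)) (Finset.dvd_prod_of_mem n hf)
    have h2 := DFunLike.congr_fun h1 ((1 : Localization.Away f) ⊗ₜ[R] a)
    rw [Groth.Agent.H9.VF.powConv_tmul, triv_tmul] at h2
    rw [TensorProduct.tmul_sub, h2, sub_self]
  · rintro ⟨n, hn, h0⟩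
    rw [torsionIdeal_eq_bot_iff] at h0
    refine finite_of_local hs fun f hf => ?_
    obtain ⟨R', _, _, hff, M, _, ⟨e⟩⟩ := hloc f hf
    refine ⟨R', inferInstance, inferInstance, hff, ?_⟩
    have := hft
    exact finite_of_powConv e inferInstance hn
      (powConv_baseChange_of_triv R' (powConv_baseChange_of_triv (Localization.Away f) h0))

end Main

end Groth.Agent.H9.MultT
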