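import Mathlib
import Groth.Prelude.Def_SGA3b
import Groth.Agent.Lib.Helper9.MultT.DiagSub
import Groth.Agent.Lib.Helper9.MultT.Finite

/-!
# The kernel `ₙG` of the `n`-th power map of a group of multiplicative type
-/

set_option autoImplicit false
set_option linter.unusedSectionVars false

namespace Groth.Agent.H9.MultT

open TensorProduct SGA3b

universe u

section KerMapDomain

variable {T : Type u} [CommRing T] {M : Type u} [CommGroup M]

/-- The ideal of `T[M]` generated by the `h - 1`, `h ∈ H`. -/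
noncomputable def augIdeal (T : Type u) [CommRing T] (H : Subgroup M) : Ideal (MonoidAlgebra T M) :=
  Ideal.span {x | ∃ h ∈ H, x = MonoidAlgebra.single h 1 - 1}

theorem single_sub_single_mem_augIdeal {H : Subgroup M} {m m' : M} (h : m * m'⁻¹ ∈ H) (r : T) :
    MonoidAlgebra.single m r - MonoidAlgebra.single m' r ∈ augIdeal T H := by
  have : (MonoidAlgebra.single m r - MonoidAlgebra.single m' r : MonoidAlgebra T M) =
      MonoidAlgebra.single m' r * (MonoidAlgebra.single (m * m'⁻¹) 1 - 1) := by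
    rw [mul_sub, mul_one, MonoidAlgebra.single_mul_single, mul_one, mul_comm m, mul_inv_cancel_left]
  rw [this]
  exact Ideal.mul_mem_left _ _ (Ideal.subset_span ⟨_, h, rfl⟩)

theorem sub_mapDomain_out_mem (H : Subgroup M) (x : MonoidAlgebra T M) :
    x - MonoidAlgebra.mapDomain (fun m => (QuotientGroup.mk' H m).out) x ∈ augIdeal T H := by
  induction x using MonoidAlgebra.induction_linear with
  | zero => simp
  | add x y hx hy =>
    rw [MonoidAlgebra.mapDomain_add, add_sub_add_comm]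
    exact add_mem hx hy
  | single m r =>
    rw [MonoidAlgebra.mapDomain_single]
    apply single_sub_single_mem_augIdeal
    have h1 : QuotientGroup.mk' H ((QuotientGroup.mk' H m).out) = QuotientGroup.mk' H m :=
      QuotientGroup.out_eq' _
    have h2 : QuotientGroup.mk' H (m * ((QuotientGroup.mk' H m).out)⁻¹) = 1 := by
      rw [map_mul, map_inv, h1, mul_inv_cancel]
    exact (QuotientGroup.eq_one_iff _).1 h2

theorem ker_mapDomain_mk (H : Subgroup M) :
    RingHom.ker (MonoidAlgebra.mapDomainBialgHom T (QuotientGroup.mk' H)) = augIdeal T H := by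
  apply le_antisymm
  · intro x hx
    rw [RingHom.mem_ker] at hx
    have h1 := sub_mapDomain_out_mem (T := T) H x
    have h2 : MonoidAlgebra.mapDomain (fun m => (QuotientGroup.mk' H m).out) x =
        MonoidAlgebra.mapDomain (fun c : M ⧸ H => c.out)
          (MonoidAlgebra.mapDomainBialgHom T (QuotientGroup.mk' H) x) := by
      ext : 1
      simp [MonoidAlgebra.mapDomain, ← Finsupp.mapDomain_comp, Function.comp_def]
    rw [h2, hx, MonoidAlgebra.mapDomain_zero, sub_zero] at h1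
    exact h1
  · rw [augIdeal, Ideal.span_le]
    rintro _ ⟨h, hh, rfl⟩
    have h1 : QuotientGroup.mk' H h = 1 := (QuotientGroup.eq_one_iff h).2 hh
    rw [SetLike.mem_coe, RingHom.mem_ker, map_sub, map_one,
      MonoidAlgebra.mapDomainBialgHom_single, h1]
    exact sub_self _

theorem mapDomain_mk_surjective (H : Subgroup M) :
    Function.Surjective (MonoidAlgebra.mapDomainBialgHom T (QuotientGroup.mk' H)) := by
  intro y
  induction y using MonoidAlgebra.induction_linear with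
  | zero => exact ⟨0, map_zero _⟩
  | add x y hx hy =>
    obtain ⟨a, rfl⟩ := hx
    obtain ⟨b, rfl⟩ := hy
    exact ⟨a + b, map_add _ _ _⟩
  | single c r =>
    obtain ⟨m, rfl⟩ := QuotientGroup.mk'_surjective H c
    exact ⟨MonoidAlgebra.single m r, MonoidAlgebra.mapDomainBialgHom_single _ m r⟩

end KerMapDomain

section KerEq

variable {T : Type u} [CommRing T] {B C₁ C₂ : Type u} [CommRing B] [CommRing C₁] [CommRing C₂]
  [Bialgebra T B] [Bialgebra T C₁] [Bialgebra T C₂]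

/-- Two surjective algebra maps with the same kernel have isomorphic targets. -/
noncomputable def algEquivOfKerEq (π₁ : B →ₐ[T] C₁) (π₂ : B →ₐ[T] C₂)
    (h₁ : Function.Surjective π₁) (h₂ : Function.Surjective π₂)
    (hker : RingHom.ker π₁ = RingHom.ker π₂) : C₁ ≃ₐ[T] C₂ :=
  (Ideal.quotientKerAlgEquivOfSurjective h₁).symm.trans
    ((Ideal.quotientEquivAlgOfEq T hker).trans (Ideal.quotientKerAlgEquivOfSurjective h₂))

theorem algEquivOfKerEq_apply (π₁ : B →ₐ[T] C₁) (π₂ : B →ₐ[T] C₂)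
    (h₁ : Function.Surjective π₁) (h₂ : Function.Surjective π₂)
    (hker : RingHom.ker π₁ = RingHom.ker π₂) (b : B) :
    algEquivOfKerEq π₁ π₂ h₁ h₂ hker (π₁ b) = π₂ b := by
  have h : (Ideal.quotientKerAlgEquivOfSurjective h₁).symm (π₁ b) =
      Ideal.Quotient.mk _ b := by
    rw [AlgEquiv.symm_apply_eq]
    rfl
  simp only [algEquivOfKerEq, AlgEquiv.trans_apply, h]
  rfl

theorem counit_algEquivOfKerEq (π₁ : B →ₐc[T] C₁) (π₂ : B →ₐc[T] C₂)
    (h₁ : Function.Surjective (π₁ : B →ₐ[T] C₁)) (h₂ : Function.Surjective (π₂ : B →ₐ[T] C₂))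
    (hker : RingHom.ker (π₁ : B →ₐ[T] C₁) = RingHom.ker (π₂ : B →ₐ[T] C₂)) (c : C₁) :
    Coalgebra.counit (R := T) (algEquivOfKerEq (π₁ : B →ₐ[T] C₁) (π₂ : B →ₐ[T] C₂) h₁ h₂ hker c) =
      Coalgebra.counit (R := T) c := by
  obtain ⟨b, rfl⟩ := h₁ c
  rw [algEquivOfKerEq_apply]
  exact (CoalgHomClass.counit_comp_apply π₂ b).trans (CoalgHomClass.counit_comp_apply π₁ b).symm

theorem comul_algEquivOfKerEq (π₁ : B →ₐc[T] C₁) (π₂ : B →ₐc[T] C₂)
    (h₁ : Function.Surjective (π₁ : B →ₐ[T] C₁)) (h₂ : Function.Surjective (π₂ : B →ₐ[T] C₂))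
    (hker : RingHom.ker (π₁ : B →ₐ[T] C₁) = RingHom.ker (π₂ : B →ₐ[T] C₂)) (c : C₁) :
    Algebra.TensorProduct.map
        (algEquivOfKerEq (π₁ : B →ₐ[T] C₁) (π₂ : B →ₐ[T] C₂) h₁ h₂ hker : C₁ →ₐ[T] C₂)
        (algEquivOfKerEq (π₁ : B →ₐ[T] C₁) (π₂ : B →ₐ[T] C₂) h₁ h₂ hker : C₁ →ₐ[T] C₂)
        (Coalgebra.comul (R := T) c) =
      Coalgebra.comul (R := T)
        (algEquivOfKerEq (π₁ : B →ₐ[T] C₁) (π₂ : B →ₐ[T] C₂) h₁ h₂ hker c) := by
  obtain ⟨b, rfl⟩ := h₁ c
  rw [algEquivOfKerEq_apply]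
  have e1 : Coalgebra.comul (R := T) ((π₁ : B →ₐ[T] C₁) b) =
      TensorProduct.map (π₁ : B →ₗ[T] C₁) (π₁ : B →ₗ[T] C₁) (Coalgebra.comul (R := T) b) :=
    (CoalgHomClass.map_comp_comul_apply π₁ b).symm
  have e2 : Coalgebra.comul (R := T) ((π₂ : B →ₐ[T] C₂) b) =
      TensorProduct.map (π₂ : B →ₗ[T] C₂) (π₂ : B →ₗ[T] C₂) (Coalgebra.comul (R := T) b) :=
    (CoalgHomClass.map_comp_comul_apply π₂ b).symm
  rw [e1, e2]
  generalize Coalgebra.comul (R := T) b = t
  induction t using TensorProduct.induction_on with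
  | zero => simp
  | add x y hx hy => simp only [map_add, hx, hy]
  | tmul x y =>
    rw [TensorProduct.map_tmul, TensorProduct.map_tmul, Algebra.TensorProduct.map_tmul]
    change algEquivOfKerEq (π₁ : B →ₐ[T] C₁) (π₂ : B →ₐ[T] C₂) h₁ h₂ hker
        ((π₁ : B →ₐ[T] C₁) x) ⊗ₜ[T]
      algEquivOfKerEq (π₁ : B →ₐ[T] C₁) (π₂ : B →ₐ[T] C₂) h₁ h₂ hker
        ((π₁ : B →ₐ[T] C₁) y) = _
    rw [algEquivOfKerEq_apply, algEquivOfKerEq_apply]
    rfl

/-- Two surjective bialgebra maps with the same kernel have isomorphic targets. -/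
noncomputable def bialgEquivOfKerEq (π₁ : B →ₐc[T] C₁) (π₂ : B →ₐc[T] C₂)
    (h₁ : Function.Surjective (π₁ : B →ₐ[T] C₁)) (h₂ : Function.Surjective (π₂ : B →ₐ[T] C₂))
    (hker : RingHom.ker (π₁ : B →ₐ[T] C₁) = RingHom.ker (π₂ : B →ₐ[T] C₂)) : C₁ ≃ₐc[T] C₂ :=
  BialgEquiv.ofAlgEquiv (algEquivOfKerEq (π₁ : B →ₐ[T] C₁) (π₂ : B →ₐ[T] C₂) h₁ h₂ hker)
    (by
      apply AlgHom.ext
      intro c
      exact counit_algEquivOfKerEq π₁ π₂ h₁ h₂ hker c)
    (by
      apply AlgHom.ext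
      intro c
      exact comul_algEquivOfKerEq π₁ π₂ h₁ h₂ hker c)

end KerEq

section Quot

variable {R : Type u} [CommRing R] {A : Type u} [CommRing A] [HopfAlgebra R A]

theorem sub_counit_mem_ker (a : A) :
    a - algebraMap R A (Coalgebra.counit a) ∈ RingHom.ker (Bialgebra.counitAlgHom R A) := by
  rw [RingHom.mem_ker, map_sub, Bialgebra.counitAlgHom_apply, AlgHom.commutes]
  simp

theorem powConv_sub_mem_torsionIdeal (n : ℕ) (a : A) :
    powConv R A n a - algebraMap R A (Coalgebra.counit a) ∈ torsionIdeal R A n := by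
  have h := Ideal.mem_map_of_mem (powConv R A n) (sub_counit_mem_ker (R := R) a)
  rw [map_sub, AlgHom.commutes] at h
  exact h

theorem powConv_quotient_triv (n : ℕ) (J : Ideal A) [J.IsHopfIdeal R]
    (hJ : torsionIdeal R A n ≤ J) : powConv R (A ⧸ J) n = triv R (A ⧸ J) := by
  apply AlgHom.ext
  intro x
  obtain ⟨a, rfl⟩ := Ideal.Quotient.mk_surjective x
  have h1 : powConv R (A ⧸ J) n (Ideal.Quotient.mk J a) =
      Ideal.Quotient.mk J (powConv R A n a) :=
    powConv_bialgHom_apply (Bialgebra.Quotient.mkBialgHom (R := R) J) n a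
  rw [h1, triv_apply, Bialgebra.Quotient.counit_mk]
  have h2 := hJ (powConv_sub_mem_torsionIdeal n a)
  rw [← Ideal.Quotient.eq_zero_iff_mem, map_sub, sub_eq_zero] at h2
  rw [h2]
  rfl

/-- A bialgebra map to a Hopf algebra killed by `n` kills `[n]^*` of the augmentation ideal. -/
theorem map_powConv_eq_zero {T : Type u} [CommRing T] {B C : Type u} [CommRing B] [CommRing C]
    [HopfAlgebra T B] [HopfAlgebra T C] (ρ : B →ₐc[T] C) {n : ℕ}
    (hC : powConv T C n = triv T C) {y : B} (hy : Coalgebra.counit (R := T) y = 0) :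
    ρ (powConv T B n y) = 0 := by
  rw [← powConv_bialgHom_apply, hC, triv_apply, CoalgHomClass.counit_comp_apply, hy, map_zero]

end Quot

section TLevel

variable {R : Type u} [CommRing R] {A : Type u} [CommRing A] [HopfAlgebra R A]
  (T : Type u) [CommRing T] [Algebra R T] {M : Type u} [CommGroup M]

/-- The subgroup of `n`-th powers. -/
def powSubgroup (M : Type u) [CommGroup M] (n : ℕ) : Subgroup M := (powMonoidHom n : M →* M).range

theorem pow_eq_one_quot (n : ℕ) (c : M ⧸ powSubgroup M n) : c ^ n = 1 := by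
  obtain ⟨m, rfl⟩ := QuotientGroup.mk_surjective c
  rw [← QuotientGroup.mk_pow, QuotientGroup.eq_one_iff]
  exact ⟨m, rfl⟩

variable {T}

theorem ker_eq_of_torsion (e : T ⊗[R] A ≃ₐc[T] MonoidAlgebra T M) (n : ℕ) (J : Ideal A)
    [J.IsHopfIdeal R] (hJ : J = torsionIdeal R A n) :
    RingHom.ker ((Bialgebra.TensorProduct.map (BialgHom.id T T)
        (Bialgebra.Quotient.mkBialgHom (R := R) J) :
          T ⊗[R] A →ₐc[T] T ⊗[R] (A ⧸ J)) : T ⊗[R] A →ₐ[T] T ⊗[R] (A ⧸ J)) =
      RingHom.ker (((MonoidAlgebra.mapDomainBialgHom T (QuotientGroup.mk' (powSubgroup M n))).comp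
        (e : T ⊗[R] A →ₐc[T] MonoidAlgebra T M) :
          T ⊗[R] A →ₐc[T] MonoidAlgebra T (M ⧸ powSubgroup M n)) :
            T ⊗[R] A →ₐ[T] MonoidAlgebra T (M ⧸ powSubgroup M n)) := by
  set π₁ : T ⊗[R] A →ₐc[T] T ⊗[R] (A ⧸ J) := Bialgebra.TensorProduct.map (BialgHom.id T T)
        (Bialgebra.Quotient.mkBialgHom (R := R) J) with hπ₁
  set π₂ : T ⊗[R] A →ₐc[T] MonoidAlgebra T (M ⧸ powSubgroup M n) :=
    (MonoidAlgebra.mapDomainBialgHom T (QuotientGroup.mk' (powSubgroup M n))).comp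
        (e : T ⊗[R] A →ₐc[T] MonoidAlgebra T M) with hπ₂
  have hC₂ : powConv T (MonoidAlgebra T (M ⧸ powSubgroup M n)) n =
      triv T (MonoidAlgebra T (M ⧸ powSubgroup M n)) :=
    powConv_monAlg_eq_triv_of_forall (pow_eq_one_quot n)
  have hC₁ : powConv T (T ⊗[R] (A ⧸ J)) n = triv T (T ⊗[R] (A ⧸ J)) :=
    powConv_baseChange_of_triv T (powConv_quotient_triv n J hJ.ge)
  have hker₁ : RingHom.ker (π₁ : T ⊗[R] A →ₐ[T] T ⊗[R] (A ⧸ J)) =
      J.map (Algebra.TensorProduct.includeRight : A →ₐ[R] T ⊗[R] A) := by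
    have h := Algebra.TensorProduct.lTensor_ker (A := T) (Ideal.Quotient.mkₐ R J)
      Ideal.Quotient.mk_surjective
    have h' : RingHom.ker (Ideal.Quotient.mkₐ R J) = J := Ideal.Quotient.mkₐ_ker R J
    rw [h'] at h
    rw [← h]
    rfl
  apply le_antisymm
  · rw [hker₁, Ideal.map_le_iff_le_comap, hJ, torsionIdeal, Ideal.map_le_iff_le_comap]
    intro a' ha'
    rw [RingHom.mem_ker, Bialgebra.counitAlgHom_apply] at ha'
    rw [Ideal.mem_comap, Ideal.mem_comap, RingHom.mem_ker]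
    change π₂ ((1 : T) ⊗ₜ[R] powConv R A n a') = 0
    rw [← Groth.Agent.H9.VF.powConv_tmul]
    refine map_powConv_eq_zero π₂ hC₂ ?_
    rw [TensorProduct.counit_tmul, ha', zero_smul]
  · intro x hx
    rw [RingHom.mem_ker] at hx ⊢
    have hx' : MonoidAlgebra.mapDomainBialgHom T (QuotientGroup.mk' (powSubgroup M n)) (e x) = 0 :=
      hx
    rw [← RingHom.mem_ker, ker_mapDomain_mk] at hx'
    let ρ : MonoidAlgebra T M →ₐc[T] T ⊗[R] (A ⧸ J) :=
      π₁.comp (e.symm : MonoidAlgebra T M →ₐc[T] T ⊗[R] A)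
    have hρ : augIdeal T (powSubgroup M n) ≤
        RingHom.ker (ρ : MonoidAlgebra T M →ₐ[T] T ⊗[R] (A ⧸ J)) := by
      rw [augIdeal, Ideal.span_le]
      rintro _ ⟨h, ⟨m, rfl⟩, rfl⟩
      rw [SetLike.mem_coe, RingHom.mem_ker]
      have h1 : (MonoidAlgebra.single ((powMonoidHom n) m) 1 - 1 : MonoidAlgebra T M) =
          powConv T (MonoidAlgebra T M) n (MonoidAlgebra.single m 1 - 1) := by
        rw [map_sub, powConv_single, map_one]
        rfl
      rw [h1]
      refine map_powConv_eq_zero ρ hC₁ ?_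
      rw [map_sub, MonoidAlgebra.counit_single, Bialgebra.counit_one]
      simp
    have h2 := hρ hx'
    rw [RingHom.mem_ker] at h2
    have h3 : ρ (e x) = π₁ x := by
      change π₁ (e.symm (e x)) = π₁ x
      rw [e.symm_apply_apply]
    exact h3 ▸ h2

end TLevel

section Assemble

variable {R : Type u} [CommRing R] {A : Type u} [CommRing A] [HopfAlgebra R A]

/-- Converse of `exists_cover_of_isMultType`. -/
theorem isMultType_of_cover
    (h : ∃ s : Set R, Ideal.span s = ⊤ ∧ ∀ f ∈ s, ∃ (T : Type u) (_ : CommRing T) (_ : Algebra R T),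
      IsFFOver f T ∧ IsDiag T (T ⊗[R] A)) : IsMultType R A := by
  obtain ⟨s, hs, hloc⟩ := h
  refine ⟨s, hs, fun f hf => ?_⟩
  obtain ⟨T, _, _, ⟨algf, tower, ff⟩, M, _, ⟨e⟩⟩ := hloc f hf
  exact ⟨T, inferInstance, algf, ff, M, inferInstance,
    ⟨(Groth.Agent.H9.MT.cancelBC R (Localization.Away f) T A).trans e⟩⟩

theorem torsion_isMultType_and_finite (hft : Algebra.FiniteType R A) (h : IsMultType R A)
    (n : ℕ) (hn : 0 < n) (J : Ideal A) [J.IsHopfIdeal R] (hJ : J = torsionIdeal R A n) :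
    IsMultType R (A ⧸ J) ∧ Module.Finite R (A ⧸ J) := by
  have hmt : IsMultType R (A ⧸ J) := by
    apply isMultType_of_cover
    obtain ⟨s, hs, hloc⟩ := exists_cover_of_isMultType h
    refine ⟨s, hs, fun f hf => ?_⟩
    obtain ⟨T, _, _, hT, M, _, ⟨e⟩⟩ := hloc f hf
    refine ⟨T, inferInstance, inferInstance, hT, M ⧸ powSubgroup M n, inferInstance, ⟨?_⟩⟩
    refine bialgEquivOfKerEq _ _ ?_ ?_ (ker_eq_of_torsion e n J hJ)
    · exact Algebra.TensorProduct.map_surjective (AlgHom.id T T) (Ideal.Quotient.mkₐ R J)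
        Function.surjective_id Ideal.Quotient.mk_surjective
    · exact (mapDomain_mk_surjective _).comp e.surjective
  refine ⟨hmt, ?_⟩
  have hft' : Algebra.FiniteType R (A ⧸ J) :=
    hft.of_surjective (Ideal.Quotient.mkₐ R J) Ideal.Quotient.mk_surjective
  exact (finite_iff hft' hmt).2
    ⟨n, hn, (torsionIdeal_eq_bot_iff R (A ⧸ J) n).2 (powConv_quotient_triv n J hJ.ge)⟩

end Assemble

end Groth.Agent.H9.MultT
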