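import Mathlib
import Groth.Prelude.Def_SGA3b
import Groth.Agent.Lib.Helper9.MultT.Torsion
import Groth.Agent.Lib.Helper8.Hens.SmoothReduced

/-!
# Density of prime-to-`p` torsion in a smooth group of multiplicative type over a field
-/

set_option autoImplicit false
set_option linter.unusedSectionVars false

namespace Groth.Agent.H9.MultT

open TensorProduct SGA3b

universe u

section Grp

variable {M : Type u} [CommGroup M]

theorem mem_powSubgroup_iff (n : ℕ) (x : M) : x ∈ powSubgroup M n ↔ ∃ y : M, y ^ n = x :=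
  Iff.rfl

theorem powSubgroup_le_of_dvd {m n : ℕ} (h : m ∣ n) : powSubgroup M n ≤ powSubgroup M m := by
  rintro x ⟨y, rfl⟩
  obtain ⟨c, rfl⟩ := h
  exact ⟨y ^ c, by change (y ^ c) ^ m = y ^ (m * c); rw [← pow_mul, mul_comm]⟩

/-- Krull's intersection theorem for the finitely generated `ℤ`-module `M`. -/
theorem exists_zpow_of_forall_pow [Group.FG M] (q : ℕ) (x : M)
    (h : ∀ i : ℕ, x ∈ powSubgroup M (q ^ i)) : ∃ a : ℤ, x ^ ((q : ℤ) * a - 1) = 1 := by
  have hfin : Module.Finite ℤ (Additive M) := Module.Finite.iff_addGroup_fg.2 inferInstance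
  set I : Ideal ℤ := Ideal.span {(q : ℤ)} with hI
  have hmem : Additive.ofMul x ∈ (⨅ i : ℕ, I ^ i • ⊤ : Submodule ℤ (Additive M)) := by
    rw [Submodule.mem_iInf]
    intro i
    obtain ⟨y, hy⟩ := h i
    have h1 : Additive.ofMul x = ((q : ℤ) ^ i) • Additive.ofMul y := by
      rw [← hy]
      change Additive.ofMul (y ^ (q ^ i)) = _
      rw [ofMul_pow]
      norm_cast
    rw [h1]
    exact Submodule.smul_mem_smul (Ideal.pow_mem_pow (Ideal.mem_span_singleton_self _) i)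
      Submodule.mem_top
  obtain ⟨⟨r, hr⟩, hrx⟩ := (Ideal.mem_iInf_smul_pow_eq_bot_iff I (Additive.ofMul x)).1 hmem
  obtain ⟨a, rfl⟩ := Ideal.mem_span_singleton'.1 hr
  refine ⟨a, ?_⟩
  have h2 : ((q : ℤ) * a - 1) • Additive.ofMul x = 0 := by
    rw [sub_smul, one_smul, mul_comm]
    exact sub_eq_zero.2 hrx
  have h3 : Additive.ofMul (x ^ ((q : ℤ) * a - 1)) = Additive.ofMul 1 := by
    rw [ofMul_zpow, h2]
    rfl
  exact Additive.ofMul.injective h3

theorem eq_one_of_forall_mem_powSubgroup [Group.FG M] (p : ℕ) (hp : p = 0 ∨ p.Prime)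
    (htors : p.Prime → ∀ m : M, m ^ p = 1 → m = 1) (x : M)
    (h : ∀ n : ℕ, 0 < n → ¬ p ∣ n → x ∈ powSubgroup M n) : x = 1 := by
  have key : ∀ q : ℕ, q.Prime → q ≠ p → IsOfFinOrder x ∧ ¬ q ∣ orderOf x := by
    intro q hq hqp
    have hpow : ∀ i : ℕ, ¬ p ∣ q ^ i := by
      intro i hd
      rcases hp with rfl | hp
      · exact (pow_pos hq.pos i).ne' (zero_dvd_iff.1 hd)
      · exact hqp ((Nat.prime_dvd_prime_iff_eq hp hq).1 (hp.dvd_of_dvd_pow hd)).symm
    obtain ⟨a, ha⟩ := exists_zpow_of_forall_pow q x fun i => h (q ^ i) (pow_pos hq.pos i) (hpow i)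
    have hq1 : ¬ (q : ℤ) ∣ 1 := by
      intro hd
      have := Int.eq_one_of_dvd_one (by positivity) hd
      exact hq.one_lt.ne' (by exact_mod_cast this)
    have hne : ((q : ℤ) * a - 1) ≠ 0 := by
      intro h0
      exact hq1 ⟨a, (sub_eq_zero.1 h0).symm⟩
    refine ⟨isOfFinOrder_iff_zpow_eq_one.2 ⟨_, hne, ha⟩, fun hd => hq1 ?_⟩
    have h1 : (orderOf x : ℤ) ∣ (q : ℤ) * a - 1 := orderOf_dvd_iff_zpow_eq_one.2 ha
    have h2 : (q : ℤ) ∣ (q : ℤ) * a - 1 := (Int.natCast_dvd_natCast.2 hd).trans h1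
    have h3 : (q : ℤ) ∣ (q : ℤ) * a := dvd_mul_right _ _
    have := (dvd_sub h3 h2)
    simpa using this
  -- `x` has finite order
  have hfin : IsOfFinOrder x := by
    by_cases h2 : p = 2
    · exact (key 3 Nat.prime_three (by omega)).1
    · exact (key 2 Nat.prime_two (fun h => h2 h.symm)).1
  have hord : orderOf x ≠ 0 := (orderOf_pos_iff.2 hfin).ne'
  by_contra hx
  have hne1 : orderOf x ≠ 1 := fun h => hx (orderOf_eq_one_iff.1 h)
  obtain ⟨r, hr, hrd⟩ := Nat.exists_prime_and_dvd hne1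
  have hrp : r = p := by
    by_contra hrp
    exact (key r hr hrp).2 hrd
  subst hrp
  have hz := orderOf_pow_orderOf_div hord hrd
  have hz1 : x ^ (orderOf x / r) = 1 := by
    apply htors hr
    rw [← pow_mul, Nat.div_mul_cancel hrd, pow_orderOf_eq_one]
  rw [hz1, orderOf_one] at hz
  exact hr.one_lt.ne hz

end Grp

section Sep

variable {T : Type u} [CommRing T] {M : Type u} [CommGroup M]

theorem not_dvd_prod {ι : Type*} (p : ℕ) (hp : p = 0 ∨ p.Prime) (s : Finset ι) (f : ι → ℕ)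
    (h : ∀ i ∈ s, ¬ p ∣ f i) : ¬ p ∣ ∏ i ∈ s, f i := by
  intro hd
  rcases hp with rfl | hp
  · rw [zero_dvd_iff, Finset.prod_eq_zero_iff] at hd
    obtain ⟨i, hi, h0⟩ := hd
    exact h i hi (by rw [h0])
  · obtain ⟨i, hi, hdi⟩ := (Prime.dvd_finsetProd_iff hp.prime f).1 hd
    exact h i hi hdi

theorem torsionIdeal_le_ker_mapDomain (n : ℕ) :
    torsionIdeal T (MonoidAlgebra T M) n ≤
      RingHom.ker (MonoidAlgebra.mapDomainBialgHom T (QuotientGroup.mk' (powSubgroup M n))) := by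
  rw [torsionIdeal, Ideal.map_le_iff_le_comap]
  intro y hy
  rw [RingHom.mem_ker, Bialgebra.counitAlgHom_apply] at hy
  rw [Ideal.mem_comap, RingHom.mem_ker]
  exact map_powConv_eq_zero _ (powConv_monAlg_eq_triv_of_forall (pow_eq_one_quot n)) hy

theorem eq_zero_of_forall_mem_torsionIdeal [Group.FG M] (p : ℕ) (hp : p = 0 ∨ p.Prime)
    (htors : p.Prime → ∀ m : M, m ^ p = 1 → m = 1) (y : MonoidAlgebra T M)
    (h : ∀ n : ℕ, 0 < n → ¬ p ∣ n → y ∈ torsionIdeal T (MonoidAlgebra T M) n) : y = 0 := by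
  classical
  have hex : ∀ d : M, d ≠ 1 → ∃ n : ℕ, 0 < n ∧ ¬ p ∣ n ∧ d ∉ powSubgroup M n := by
    intro d hd
    by_contra hcon
    refine hd (eq_one_of_forall_mem_powSubgroup p hp htors d fun n hn hpn => ?_)
    by_contra hmem
    exact hcon ⟨n, hn, hpn, hmem⟩
  choose! ν hν0 hνp hνd using hex
  set S : Finset M := y.coeff.support with hS
  set N : ℕ := ∏ pr ∈ S.offDiag, ν (pr.1 * pr.2⁻¹) with hN
  have hne : ∀ pr ∈ S.offDiag, pr.1 * pr.2⁻¹ ≠ 1 := by
    intro pr hpr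
    rw [Finset.mem_offDiag] at hpr
    intro h1
    exact hpr.2.2 (mul_inv_eq_one.1 h1)
  have hN0 : 0 < N := Finset.prod_pos fun pr hpr => hν0 _ (hne pr hpr)
  have hNp : ¬ p ∣ N := not_dvd_prod p hp _ _ fun pr hpr => hνp _ (hne pr hpr)
  have hinj : Set.InjOn (QuotientGroup.mk' (powSubgroup M N)) (S : Set M) := by
    intro s hs s' hs' hss
    by_contra hne'
    have hmem : (s, s') ∈ S.offDiag := Finset.mem_offDiag.2 ⟨hs, hs', hne'⟩
    have h1 : s * s'⁻¹ ∈ powSubgroup M N := by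
      have h2 : QuotientGroup.mk' (powSubgroup M N) (s * s'⁻¹) = 1 := by
        rw [map_mul, map_inv, hss, mul_inv_cancel]
      exact (QuotientGroup.eq_one_iff _).1 h2
    have h3 : ν (s * s'⁻¹) ∣ N := Finset.dvd_prod_of_mem (fun pr : M × M => ν (pr.1 * pr.2⁻¹)) hmem
    exact hνd _ (hne _ hmem) (powSubgroup_le_of_dvd h3 h1)
  have hy := torsionIdeal_le_ker_mapDomain N (h N hN0 hNp)
  rw [RingHom.mem_ker] at hy
  have hy' : Finsupp.mapDomain (QuotientGroup.mk' (powSubgroup M N)) y.coeff =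
      Finsupp.mapDomain (QuotientGroup.mk' (powSubgroup M N)) 0 := by
    rw [Finsupp.mapDomain_zero]
    have := congrArg MonoidAlgebra.coeff hy
    exact this
  have h0 := Finsupp.mapDomain_injOn (S : Set M) hinj (by simp [hS]) (by simp) hy'
  exact MonoidAlgebra.coeff_injective h0

end Sep

section Transport

variable {T : Type u} [CommRing T] {B C : Type u} [CommRing B] [CommRing C]
  [HopfAlgebra T B] [HopfAlgebra T C]

theorem map_mem_torsionIdeal (ρ : B →ₐc[T] C) (n : ℕ) {b : B} (hb : b ∈ torsionIdeal T B n) :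
    ρ b ∈ torsionIdeal T C n := by
  have h : torsionIdeal T B n ≤ (torsionIdeal T C n).comap (ρ : B →ₐ[T] C) := by
    rw [torsionIdeal, Ideal.map_le_iff_le_comap]
    intro y hy
    rw [RingHom.mem_ker, Bialgebra.counitAlgHom_apply] at hy
    rw [Ideal.mem_comap, Ideal.mem_comap]
    change ρ (powConv T B n y) ∈ _
    rw [← powConv_bialgHom_apply]
    refine Ideal.mem_map_of_mem _ ?_
    rw [RingHom.mem_ker, Bialgebra.counitAlgHom_apply, CoalgHomClass.counit_comp_apply, hy]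
  exact h hb

variable {R : Type u} [CommRing R] {A : Type u} [CommRing A] [HopfAlgebra R A]
  (S : Type u) [CommRing S] [Algebra R S]

theorem one_tmul_mem_torsionIdeal (n : ℕ) {a : A} (ha : a ∈ torsionIdeal R A n) :
    (1 : S) ⊗ₜ[R] a ∈ torsionIdeal S (S ⊗[R] A) n := by
  have h : torsionIdeal R A n ≤ (torsionIdeal S (S ⊗[R] A) n).comap
      (Algebra.TensorProduct.includeRight : A →ₐ[R] S ⊗[R] A) := by
    rw [torsionIdeal, Ideal.map_le_iff_le_comap]
    intro y hy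
    rw [RingHom.mem_ker, Bialgebra.counitAlgHom_apply] at hy
    rw [Ideal.mem_comap, Ideal.mem_comap]
    change (1 : S) ⊗ₜ[R] powConv R A n y ∈ _
    rw [← Groth.Agent.H9.VF.powConv_tmul]
    refine Ideal.mem_map_of_mem _ ?_
    rw [RingHom.mem_ker, Bialgebra.counitAlgHom_apply, TensorProduct.counit_tmul, hy, zero_smul]
  exact h ha

end Transport

section Main

variable {k : Type u} [Field k] {A : Type u} [CommRing A] [HopfAlgebra k A]

theorem torsion_dense (hft : Algebra.FiniteType k A) [Algebra.FormallySmooth k A]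
    (h : IsMultType k A) :
    ⨅ n : {n : ℕ // 0 < n ∧ ¬ ringChar k ∣ n}, torsionIdeal k A n.1 = ⊥ := by
  obtain ⟨K, _, _, hff, hdiag⟩ := Groth.Agent.H9.MT.isMultTypeConst_of_isMultType h
  have hKnt : Nontrivial K := by
    by_contra hK
    rw [not_nontrivial_iff_subsingleton] at hK
    have h1 : Subsingleton (K ⊗[k] k) := inferInstance
    have h2 := (Module.FaithfullyFlat.subsingleton_tensorProduct_iff_right k K).1 h1
    exact not_subsingleton k h2
  obtain ⟨𝔪, h𝔪⟩ := Ideal.exists_maximal K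
  let _ : Field (K ⧸ 𝔪) := Ideal.Quotient.field 𝔪
  obtain ⟨M, _, ⟨e₁⟩⟩ := Groth.Agent.H9.MT.isDiag_baseChange (K ⧸ 𝔪) hdiag
  let E : (K ⧸ 𝔪) ⊗[k] A ≃ₐc[K ⧸ 𝔪] MonoidAlgebra (K ⧸ 𝔪) M :=
    (Groth.Agent.H9.MT.cancelBC k K (K ⧸ 𝔪) A).symm.trans e₁
  set p := ringChar k with hp
  have hpz : p = 0 ∨ p.Prime := (CharP.char_is_prime_or_zero k p).symm.imp id id
  have hcharK : CharP (K ⧸ 𝔪) p := charP_of_injective_algebraMap (algebraMap k (K ⧸ 𝔪)).injective p
  have hcharM : CharP (MonoidAlgebra (K ⧸ 𝔪) M) p :=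
    charP_of_injective_algebraMap
      (FaithfulSMul.algebraMap_injective (K ⧸ 𝔪) (MonoidAlgebra (K ⧸ 𝔪) M)) p
  -- smoothness and reducedness
  have hfp : Algebra.FinitePresentation k A := Algebra.FinitePresentation.of_finiteType.1 hft
  have hsm : Algebra.Smooth k A := ⟨inferInstance, inferInstance⟩
  have hred : IsReduced ((K ⧸ 𝔪) ⊗[k] A) :=
    Groth.Agent.H8.Hens.isReduced_of_smooth (K ⧸ 𝔪) ((K ⧸ 𝔪) ⊗[k] A)
  have hredM : IsReduced (MonoidAlgebra (K ⧸ 𝔪) M) :=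
    isReduced_of_injective (E.symm : MonoidAlgebra (K ⧸ 𝔪) M →ₐ[K ⧸ 𝔪] (K ⧸ 𝔪) ⊗[k] A)
      (EquivLike.injective E.symm)
  -- finite generation
  have hftM : Algebra.FiniteType (K ⧸ 𝔪) (MonoidAlgebra (K ⧸ 𝔪) M) :=
    Algebra.FiniteType.equiv inferInstance (E : (K ⧸ 𝔪) ⊗[k] A ≃ₐ[K ⧸ 𝔪] MonoidAlgebra (K ⧸ 𝔪) M)
  have hfg : Group.FG M := MonoidAlgebra.finiteType_iff_group_fg.1 hftM
  -- no `p`-torsion
  have htors : p.Prime → ∀ m : M, m ^ p = 1 → m = 1 := by
    intro hpp m hm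
    have : Fact p.Prime := ⟨hpp⟩
    have h1 : ((MonoidAlgebra.single m 1 - 1 : MonoidAlgebra (K ⧸ 𝔪) M)) ^ p = 0 := by
      rw [sub_pow_char, one_pow, MonoidAlgebra.single_pow, one_pow, hm]
      exact sub_self _
    have h2 : (MonoidAlgebra.single m 1 - 1 : MonoidAlgebra (K ⧸ 𝔪) M) = 0 :=
      IsReduced.eq_zero _ ⟨p, h1⟩
    exact MonoidAlgebra.of_injective (sub_eq_zero.1 h2)
  rw [eq_bot_iff]
  intro x hx
  rw [Ideal.mem_iInf] at hx
  have hy : E ((1 : K ⧸ 𝔪) ⊗ₜ[k] x) = 0 := by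
    refine eq_zero_of_forall_mem_torsionIdeal p hpz htors _ fun n hn hpn => ?_
    exact map_mem_torsionIdeal (E : (K ⧸ 𝔪) ⊗[k] A →ₐc[K ⧸ 𝔪] MonoidAlgebra (K ⧸ 𝔪) M) n
      (one_tmul_mem_torsionIdeal (K ⧸ 𝔪) n (hx ⟨n, hn, hpn⟩))
  have hz : (1 : K ⧸ 𝔪) ⊗ₜ[k] x = 0 := by
    apply EquivLike.injective E
    rw [hy, map_zero E]
  exact (Submodule.mem_bot k).2 ((Module.FaithfullyFlat.one_tmul_eq_zero_iff k A x).1 hz)

end Main

end Groth.Agent.H9.MultT
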