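import Mathlib

/-!
# The Boolean partition generated by a finite family of idempotents
-/

set_option autoImplicit false
set_option linter.unusedSectionVars false

namespace Groth.Agent.H9.MultT

universe u

section BoolPart

variable {T : Type u} [CommRing T] {κ : Type u} [Fintype κ] [DecidableEq κ] (e : κ → T)

/-- The `σ`-factor at `j`. -/
def epsFac (σ : κ → Bool) (j : κ) : T := if σ j then e j else 1 - e j

/-- The atom of the Boolean algebra generated by the `e j`. -/
def epsB (σ : κ → Bool) : T := ∏ j, epsFac e σ j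

variable {e}

theorem epsFac_dvd (σ : κ → Bool) (j : κ) : epsFac e σ j ∣ epsB e σ :=
  Finset.dvd_prod_of_mem _ (Finset.mem_univ j)

theorem isIdempotentElem_epsFac (he : ∀ j, IsIdempotentElem (e j)) (σ : κ → Bool) (j : κ) :
    IsIdempotentElem (epsFac e σ j) := by
  unfold epsFac
  split_ifs
  · exact he j
  · exact (he j).one_sub

theorem isIdempotentElem_epsB (he : ∀ j, IsIdempotentElem (e j)) (σ : κ → Bool) :
    IsIdempotentElem (epsB e σ) := by
  unfold epsB IsIdempotentElem
  rw [← Finset.prod_mul_distrib]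
  exact Finset.prod_congr rfl fun j _ => isIdempotentElem_epsFac he σ j

theorem epsB_mul_of_true (he : ∀ j, IsIdempotentElem (e j)) (σ : κ → Bool) (j : κ)
    (h : σ j = true) : epsB e σ * e j = epsB e σ := by
  obtain ⟨c, hc⟩ := epsFac_dvd (e := e) σ j
  have h1 : epsFac e σ j = e j := by simp [epsFac, h]
  rw [hc, h1, mul_comm (e j) c, mul_assoc, (he j).eq]

theorem epsB_mul_of_false (he : ∀ j, IsIdempotentElem (e j)) (σ : κ → Bool) (j : κ)
    (h : σ j = false) : epsB e σ * e j = 0 := by
  obtain ⟨c, hc⟩ := epsFac_dvd (e := e) σ j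
  have h1 : epsFac e σ j = 1 - e j := by simp [epsFac, h]
  rw [hc, h1, mul_comm (1 - e j) c, mul_assoc, sub_mul, one_mul, (he j).eq, sub_self, mul_zero]

theorem epsB_mul_of_ne (he : ∀ j, IsIdempotentElem (e j)) {σ σ' : κ → Bool} (h : σ ≠ σ') :
    epsB e σ * epsB e σ' = 0 := by
  obtain ⟨j, hj⟩ := Function.ne_iff.1 h
  obtain ⟨c, hc⟩ := epsFac_dvd (e := e) σ j
  obtain ⟨c', hc'⟩ := epsFac_dvd (e := e) σ' j
  have h0 : epsFac e σ j * epsFac e σ' j = 0 := by
    unfold epsFac
    cases h1 : σ j <;> cases h2 : σ' j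
    · exact absurd (h1.trans h2.symm) hj
    · simp [sub_mul, (he j).eq]
    · simp [mul_sub, (he j).eq]
    · exact absurd (h1.trans h2.symm) hj
  rw [hc, hc', mul_mul_mul_comm, h0, zero_mul]

theorem sum_epsB : ∑ σ : κ → Bool, epsB e σ = 1 := by
  have h := Finset.sum_prod_piFinset (ι := κ) (Finset.univ : Finset Bool)
    (fun j b => if b then e j else 1 - e j)
  rw [Fintype.piFinset_univ] at h
  have h2 : ∀ j : κ, ∑ b : Bool, (if b then e j else 1 - e j) = 1 := by
    intro j
    simp
  simp only [h2, Finset.prod_const_one] at h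
  exact h

end BoolPart

end Groth.Agent.H9.MultT
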