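import Mathlib
import Groth.Prelude.Def_SGA3b
import Groth.Agent.Lib.Helper9.MultT.Torsion
import Groth.Agent.Lib.Helper9.FF.Conv

/-!
# A monomorphism from a group of multiplicative type to an affine group is a closed immersion
-/

set_option autoImplicit false
set_option linter.unusedSectionVars false

namespace Groth.Agent.H9.MultT

open TensorProduct SGA3b

universe u

section DiagCase

variable {T : Type u} [CommRing T] {M : Type u} [CommGroup M]

/-- `x ⊗ y ↦ (coefficient of m in y) • x`. -/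
noncomputable def Lm (m : M) : MonoidAlgebra T M ⊗[T] MonoidAlgebra T M →ₗ[T] MonoidAlgebra T M :=
  (TensorProduct.rid T (MonoidAlgebra T M)).toLinearMap ∘ₗ LinearMap.lTensor _ (tau m)

theorem Lm_tmul (m : M) (x y : MonoidAlgebra T M) : Lm m (x ⊗ₜ[T] y) = y.coeff m • x := by
  simp [Lm, tau_apply]

theorem Lm_comul (m : M) (z : MonoidAlgebra T M) :
    Lm m (Coalgebra.comul (R := T) z) = z.coeff m • MonoidAlgebra.single m 1 := by
  classical
  induction z using MonoidAlgebra.induction_linear with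
  | zero => simp
  | add x y hx hy =>
    rw [map_add, map_add, hx, hy, MonoidAlgebra.coeff_add, Finsupp.add_apply, add_smul]
  | single m' r =>
    rw [MonoidAlgebra.comul_single, CommSemiring.comul_apply, TensorProduct.map_tmul]
    change Lm m (MonoidAlgebra.single m' 1 ⊗ₜ[T] MonoidAlgebra.single m' r) = _
    rw [Lm_tmul, MonoidAlgebra.coeff_single, Finsupp.single_apply]
    by_cases h : m' = m
    · subst h; simp
    · simp [h]

variable {C : Type u} [CommRing C] [HopfAlgebra T C] (Φ : C →ₐc[T] MonoidAlgebra T M)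

/-- The image of `Φ`. -/
noncomputable def imB : Subalgebra T (MonoidAlgebra T M) := (Φ : C →ₐ[T] MonoidAlgebra T M).range

theorem mem_imB_iff (z : MonoidAlgebra T M) : z ∈ imB Φ ↔ ∃ c, Φ c = z := Iff.rfl

theorem component_mem_imB {z : MonoidAlgebra T M} (hz : z ∈ imB Φ) (m : M) :
    z.coeff m • MonoidAlgebra.single m 1 ∈ imB Φ := by
  obtain ⟨c, rfl⟩ := hz
  change ((Φ c).coeff m • MonoidAlgebra.single m 1) ∈ imB Φ
  rw [← Lm_comul, ← CoalgHomClass.map_comp_comul_apply Φ c]
  generalize Coalgebra.comul (R := T) c = t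
  induction t using TensorProduct.induction_on with
  | zero => simp
  | add x y hx hy => rw [map_add, map_add]; exact Subalgebra.add_mem _ hx hy
  | tmul x y =>
    rw [TensorProduct.map_tmul, Lm_tmul]
    have hx : Φ x ∈ imB Φ := ⟨x, rfl⟩
    exact Subalgebra.smul_mem _ hx _

/-- The ideal of coefficients of `m` in the image. -/
noncomputable def bIdeal (m : M) : Ideal T :=
  (Subalgebra.toSubmodule (imB Φ)).comap (LinearMap.toSpanSingleton T _ (MonoidAlgebra.single m 1))

theorem mem_bIdeal (m : M) (r : T) : r ∈ bIdeal Φ m ↔ r • MonoidAlgebra.single m 1 ∈ imB Φ := by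
  rw [bIdeal, Submodule.mem_comap, LinearMap.toSpanSingleton_apply]
  rfl

theorem coeff_mem_bIdeal {z : MonoidAlgebra T M} (hz : z ∈ imB Φ) (m : M) :
    z.coeff m ∈ bIdeal Φ m :=
  (mem_bIdeal Φ m _).2 (component_mem_imB Φ hz m)

theorem bIdeal_one : bIdeal Φ 1 = ⊤ := by
  rw [Ideal.eq_top_iff_one, mem_bIdeal, one_smul]
  exact Subalgebra.one_mem _

theorem mul_mem_bIdeal {m m' : M} {r r' : T} (hr : r ∈ bIdeal Φ m) (hr' : r' ∈ bIdeal Φ m') :
    r * r' ∈ bIdeal Φ (m * m') := by
  rw [mem_bIdeal] at hr hr' ⊢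
  have := Subalgebra.mul_mem _ hr hr'
  rw [smul_mul_smul_comm, MonoidAlgebra.single_mul_single, mul_one] at this
  exact this

theorem inv_mem_bIdeal {m : M} {r : T} (hr : r ∈ bIdeal Φ m) : r ∈ bIdeal Φ m⁻¹ := by
  rw [mem_bIdeal] at hr ⊢
  obtain ⟨c, hc⟩ := hr
  replace hc : Φ c = r • MonoidAlgebra.single m 1 := hc
  refine ⟨HopfAlgebra.antipode T c, ?_⟩
  have h1 := Groth.Agent.H9.FF.Conv.bialgHom_antipode Φ c
  change Φ (HopfAlgebra.antipode T c) = _
  rw [h1]
  change HopfAlgebra.antipode T (Φ c) = _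
  rw [hc, map_smul, MonoidAlgebra.antipode_single]
  simp

/-- The ideal generated by the `r • (m - 1)`, `r ∈ 𝔟_m`. -/
noncomputable def qIdeal : Ideal (MonoidAlgebra T M) :=
  Ideal.span {x | ∃ (m : M) (r : T), r ∈ bIdeal Φ m ∧ x = r • (MonoidAlgebra.single m 1 - 1)}

theorem sub_counit_mem_qIdeal {z : MonoidAlgebra T M} (hz : z ∈ imB Φ) :
    z - algebraMap T _ (Coalgebra.counit (R := T) z) ∈ qIdeal Φ := by
  have hD : ∀ (m : M) (r : T), (MonoidAlgebra.single m r : MonoidAlgebra T M) -
      algebraMap T _ (Coalgebra.counit (R := T) (MonoidAlgebra.single m r : MonoidAlgebra T M)) =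
      r • (MonoidAlgebra.single m 1 - 1) := by
    intro m r
    rw [MonoidAlgebra.counit_single, smul_sub, MonoidAlgebra.smul_single, smul_eq_mul, mul_one,
      Algebra.algebraMap_eq_smul_one]
    rfl
  have h1 : z - algebraMap T _ (Coalgebra.counit (R := T) z) =
      ∑ m ∈ z.coeff.support, z.coeff m • (MonoidAlgebra.single m 1 - 1 : MonoidAlgebra T M) := by
    have h2 : z = ∑ m ∈ z.coeff.support, MonoidAlgebra.single m (z.coeff m) :=
      (MonoidAlgebra.sum_coeff_single z).symm
    calc z - algebraMap T _ (Coalgebra.counit (R := T) z)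
        = (∑ m ∈ z.coeff.support, MonoidAlgebra.single m (z.coeff m)) -
          algebraMap T _ (Coalgebra.counit (R := T)
            (∑ m ∈ z.coeff.support, (MonoidAlgebra.single m (z.coeff m) : MonoidAlgebra T M))) := by
          rw [← h2]
      _ = _ := by
          rw [map_sum, map_sum, ← Finset.sum_sub_distrib]
          exact Finset.sum_congr rfl fun m _ => hD m _
  rw [h1]
  refine Ideal.sum_mem _ fun m _ => Ideal.subset_span ⟨m, z.coeff m, coeff_mem_bIdeal Φ hz m, rfl⟩

variable (hmono : ∀ (T' : Type u) [CommRing T'] [Algebra T T'],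
  Function.Injective (fun x : MonoidAlgebra T M →ₐ[T] T' => x.comp (Φ : C →ₐ[T] MonoidAlgebra T M)))

include hmono

theorem single_sub_one_mem_qIdeal (m : M) :
    (MonoidAlgebra.single m 1 - 1 : MonoidAlgebra T M) ∈ qIdeal Φ := by
  let x₁ : MonoidAlgebra T M →ₐ[T] (MonoidAlgebra T M ⧸ qIdeal Φ) := Ideal.Quotient.mkₐ T (qIdeal Φ)
  let x₂ : MonoidAlgebra T M →ₐ[T] (MonoidAlgebra T M ⧸ qIdeal Φ) :=
    (Algebra.ofId T _).comp (Bialgebra.counitAlgHom T (MonoidAlgebra T M))
  have h12 : x₁.comp (Φ : C →ₐ[T] MonoidAlgebra T M) = x₂.comp (Φ : C →ₐ[T] MonoidAlgebra T M) := by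
    apply AlgHom.ext
    intro c
    have hc : Φ c ∈ imB Φ := ⟨c, rfl⟩
    have := sub_counit_mem_qIdeal Φ hc
    rw [← Ideal.Quotient.eq_zero_iff_mem, map_sub, sub_eq_zero] at this
    exact this
  have h := hmono _ h12
  have h3 := DFunLike.congr_fun h (MonoidAlgebra.single m 1)
  have h4 : x₂ (MonoidAlgebra.single m 1) = 1 := by
    change algebraMap T (MonoidAlgebra T M ⧸ qIdeal Φ)
      (Coalgebra.counit (R := T) (MonoidAlgebra.single m (1 : T) : MonoidAlgebra T M)) = 1
    rw [MonoidAlgebra.counit_single]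
    exact map_one _
  rw [h4] at h3
  rw [← Ideal.Quotient.eq_zero_iff_mem, map_sub, map_one, sub_eq_zero]
  exact h3

theorem bIdeal_eq_top (m : M) : bIdeal Φ m = ⊤ := by
  classical
  by_contra h
  obtain ⟨𝔭, h𝔭, hle⟩ := Ideal.exists_le_maximal _ h
  let _ : Field (T ⧸ 𝔭) := Ideal.Quotient.field 𝔭
  have hprime : 𝔭.IsPrime := h𝔭.isPrime
  let N : Subgroup M :=
    { carrier := {m' | ¬ bIdeal Φ m' ≤ 𝔭}
      mul_mem' := by
        intro a b ha hb
        obtain ⟨r, hr, hr'⟩ := SetLike.not_le_iff_exists.1 ha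
        obtain ⟨s, hs, hs'⟩ := SetLike.not_le_iff_exists.1 hb
        refine SetLike.not_le_iff_exists.2 ⟨r * s, mul_mem_bIdeal Φ hr hs, ?_⟩
        intro hrs
        rcases hprime.mem_or_mem hrs with h1 | h1
        · exact hr' h1
        · exact hs' h1
      one_mem' := by
        change ¬ bIdeal Φ 1 ≤ 𝔭
        rw [bIdeal_one, top_le_iff]
        exact h𝔭.ne_top
      inv_mem' := by
        intro a ha
        obtain ⟨r, hr, hr'⟩ := SetLike.not_le_iff_exists.1 ha
        exact SetLike.not_le_iff_exists.2 ⟨r, inv_mem_bIdeal Φ hr, hr'⟩ }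
  have hmN : m ∉ N := fun hm => hm hle
  let Θ : MonoidAlgebra T M →ₐ[T] MonoidAlgebra (T ⧸ 𝔭) (M ⧸ N) :=
    MonoidAlgebra.lift T (MonoidAlgebra (T ⧸ 𝔭) (M ⧸ N)) M
      ((MonoidAlgebra.of (T ⧸ 𝔭) (M ⧸ N)).comp (QuotientGroup.mk' N))
  have hΘ : ∀ m' : M, Θ (MonoidAlgebra.single m' 1) =
      MonoidAlgebra.single (QuotientGroup.mk' N m') 1 := by
    intro m'
    simp [Θ]
  have hker : qIdeal Φ ≤ RingHom.ker Θ := by
    rw [qIdeal, Ideal.span_le]
    rintro _ ⟨m', r, hr, rfl⟩
    rw [SetLike.mem_coe, RingHom.mem_ker, map_smul, map_sub, map_one, hΘ]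
    by_cases hm' : m' ∈ N
    · have : QuotientGroup.mk' N m' = 1 := (QuotientGroup.eq_one_iff m').2 hm'
      rw [this]
      have : (MonoidAlgebra.single (1 : M ⧸ N) (1 : T ⧸ 𝔭)) = 1 := rfl
      rw [this, sub_self, smul_zero]
    · have hle' : bIdeal Φ m' ≤ 𝔭 := not_not.1 hm'
      have hr0 : algebraMap T (T ⧸ 𝔭) r = 0 := Ideal.Quotient.eq_zero_iff_mem.2 (hle' hr)
      rw [← algebraMap_smul (T ⧸ 𝔭) r, hr0, zero_smul]
  have h1 := hker (single_sub_one_mem_qIdeal Φ hmono m)
  rw [RingHom.mem_ker, map_sub, map_one, hΘ, sub_eq_zero] at h1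
  have h2 : QuotientGroup.mk' N m = 1 := MonoidAlgebra.of_injective h1
  exact hmN ((QuotientGroup.eq_one_iff m).1 h2)

theorem surjective_of_mono : Function.Surjective Φ := by
  intro z
  suffices h : z ∈ imB Φ from h
  induction z using MonoidAlgebra.induction_linear with
  | zero => exact Subalgebra.zero_mem _
  | add x y hx hy => exact Subalgebra.add_mem _ hx hy
  | single m r =>
    have h1 : (1 : T) ∈ bIdeal Φ m := by
      rw [bIdeal_eq_top Φ hmono m]
      exact Submodule.mem_top
    rw [mem_bIdeal, one_smul] at h1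
    have h2 : (MonoidAlgebra.single m r : MonoidAlgebra T M) = r • MonoidAlgebra.single m 1 := by
      rw [MonoidAlgebra.smul_single, smul_eq_mul, mul_one]
    rw [h2]
    exact Subalgebra.smul_mem _ h1 _

end DiagCase

section Descent

variable {R : Type u} [CommRing R]

theorem eq_zero_of_cover_module {s : Set R} (hs : Ideal.span s = ⊤) {N : Type u} [AddCommGroup N]
    [Module R N] (x : N)
    (h : ∀ f ∈ s, ∃ (T : Type u) (_ : CommRing T) (_ : Algebra R T), IsFFOver f T ∧
      (1 : T) ⊗ₜ[R] x = 0) : x = 0 := by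
  refine eq_zero_of_forall_one_tmul hs x fun f hf => ?_
  obtain ⟨T, _, _, ⟨algf, tower, ff⟩, h0⟩ := h f hf
  have h1 : (1 : T) ⊗ₜ[Localization.Away f] ((1 : Localization.Away f) ⊗ₜ[R] x) = 0 := by
    have := congrArg
      (TensorProduct.AlgebraTensorModule.cancelBaseChange R (Localization.Away f) T T N).symm h0
    rw [TensorProduct.AlgebraTensorModule.cancelBaseChange_symm_tmul, map_zero] at this
    exact this
  exact (Module.FaithfullyFlat.one_tmul_eq_zero_iff (Localization.Away f) _ _).1 h1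

variable {A : Type u} [CommRing A] [HopfAlgebra R A] {C : Type u} [CommRing C] [HopfAlgebra R C]

theorem surjective_of_mono_of_isMultType (h : IsMultType R A) (φ : C →ₐc[R] A)
    (hmono : ∀ (T : Type u) [CommRing T] [Algebra R T],
      Function.Injective (fun x : A →ₐ[R] T => x.comp (φ : C →ₐ[R] A))) :
    Function.Surjective φ := by
  obtain ⟨s, hs, hloc⟩ := exists_cover_of_isMultType h
  intro a
  have hmem : a ∈ LinearMap.range (φ : C →ₗ[R] A) := by
    rw [← Submodule.Quotient.mk_eq_zero]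
    refine eq_zero_of_cover_module hs _ fun f hf => ?_
    obtain ⟨T, _, _, hT, M, _, ⟨e⟩⟩ := hloc f hf
    refine ⟨T, inferInstance, inferInstance, hT, ?_⟩
    let Φ : T ⊗[R] C →ₐc[T] MonoidAlgebra T M :=
      (e : T ⊗[R] A →ₐc[T] MonoidAlgebra T M).comp
        (Bialgebra.TensorProduct.map (BialgHom.id T T) φ)
    have hΦ : ∀ y : T ⊗[R] C, Φ y = e (Algebra.TensorProduct.map (AlgHom.id T T)
        (φ : C →ₐ[R] A) y) := fun _ => rfl
    have hΦmono : ∀ (T' : Type u) [CommRing T'] [Algebra T T'],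
        Function.Injective (fun x : MonoidAlgebra T M →ₐ[T] T' =>
          x.comp (Φ : T ⊗[R] C →ₐ[T] MonoidAlgebra T M)) := by
      intro T' _ _ x₁ x₂ h12
      let _ : Algebra R T' := Algebra.compHom T' (algebraMap R T)
      have : IsScalarTower R T T' := IsScalarTower.of_algebraMap_eq fun _ => rfl
      let y : (MonoidAlgebra T M →ₐ[T] T') → (A →ₐ[R] T') := fun x =>
        ((x.comp (e : T ⊗[R] A →ₐ[T] MonoidAlgebra T M)).restrictScalars R).comp
          (Algebra.TensorProduct.includeRight : A →ₐ[R] T ⊗[R] A)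
      have hy : (y x₁).comp (φ : C →ₐ[R] A) = (y x₂).comp (φ : C →ₐ[R] A) := by
        apply AlgHom.ext
        intro c
        have := DFunLike.congr_fun h12 ((1 : T) ⊗ₜ[R] c)
        exact this
      have hy' := hmono T' hy
      have hw : ∀ w : T ⊗[R] A, x₁ (e w) = x₂ (e w) := by
        intro w
        induction w using TensorProduct.induction_on with
        | zero => rw [map_zero e, map_zero, map_zero]
        | add w₁ w₂ h₁ h₂ => rw [map_add e, map_add, map_add, h₁, h₂]
        | tmul t a' =>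
          have h3 : t ⊗ₜ[R] a' = t • ((1 : T) ⊗ₜ[R] a') := by
            rw [TensorProduct.smul_tmul', smul_eq_mul, mul_one]
          rw [h3, map_smul e, map_smul, map_smul]
          congr 1
          exact DFunLike.congr_fun hy' a'
      apply AlgHom.ext
      intro z
      have := hw (e.symm z)
      rwa [e.apply_symm_apply] at this
    obtain ⟨y, hy⟩ := surjective_of_mono Φ hΦmono (e ((1 : T) ⊗ₜ[R] a))
    rw [hΦ] at hy
    have hy2 : Algebra.TensorProduct.map (AlgHom.id T T) (φ : C →ₐ[R] A) y = (1 : T) ⊗ₜ[R] a :=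
      EquivLike.injective e hy
    have hz : ∀ y : T ⊗[R] C, LinearMap.lTensor T (LinearMap.range (φ : C →ₗ[R] A)).mkQ
        (Algebra.TensorProduct.map (AlgHom.id T T) (φ : C →ₐ[R] A) y) = 0 := by
      intro y
      induction y using TensorProduct.induction_on with
      | zero => simp
      | add w₁ w₂ h₁ h₂ => rw [map_add, map_add, h₁, h₂, add_zero]
      | tmul t c =>
        rw [Algebra.TensorProduct.map_tmul, LinearMap.lTensor_tmul]
        have : (LinearMap.range (φ : C →ₗ[R] A)).mkQ ((φ : C →ₐ[R] A) c) = 0 := by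
          rw [Submodule.mkQ_apply, Submodule.Quotient.mk_eq_zero]
          exact ⟨c, rfl⟩
        rw [this, TensorProduct.tmul_zero]
    have := hz y
    rw [hy2, LinearMap.lTensor_tmul] at this
    exact this
  obtain ⟨c, hc⟩ := hmem
  exact ⟨c, hc⟩

end Descent

end Groth.Agent.H9.MultT
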