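import Mathlib
import Groth.Prelude.Def_SGA3b
import Groth.Agent.Lib.Helper9.MultT.Mono
import Groth.Agent.Lib.Helper9.MultT.BoolPart

/-!
# The image of a bialgebra map from a finitely generated Hopf algebra to a group algebra

`Φ : C → T[M]`, `C` of finite type.  The coefficient ideals `𝔟_m` are idempotent and finitely
generated, and `Spec T` has a finite partition into open and closed pieces on each of which all the
`𝔟_m` are `0` or `⊤`.
-/

set_option autoImplicit false
set_option linter.unusedSectionVars false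

namespace Groth.Agent.H9.MultT

open TensorProduct SGA3b

universe u

attribute [local instance] Classical.propDecidable

section Idem

variable {T : Type u} [CommRing T] {M : Type u} [CommGroup M]
variable {C : Type u} [CommRing C] [HopfAlgebra T C] (Φ : C →ₐc[T] MonoidAlgebra T M)

theorem bIdeal_le_mul_self (m : M) : bIdeal Φ m ≤ bIdeal Φ m * bIdeal Φ m := by
  intro r hr
  obtain ⟨c, hc⟩ := (mem_bIdeal Φ m r).1 hr
  replace hc : Φ c = r • MonoidAlgebra.single m 1 := hc
  have h1 : tau2 m m (Coalgebra.comul (R := T) (Φ c)) = r := by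
    rw [tau2_comul, if_pos rfl, hc, MonoidAlgebra.coeff_smul, Finsupp.smul_apply,
      MonoidAlgebra.coeff_single, Finsupp.single_eq_same, smul_eq_mul, mul_one]
  rw [← CoalgHomClass.map_comp_comul_apply Φ c] at h1
  rw [← h1]
  generalize Coalgebra.comul (R := T) c = t
  induction t using TensorProduct.induction_on with
  | zero => simp
  | add x y hx hy => rw [map_add, map_add]; exact add_mem hx hy
  | tmul x y =>
    rw [TensorProduct.map_tmul, tau2_tmul]
    exact Ideal.mul_mem_mul (coeff_mem_bIdeal Φ ⟨x, rfl⟩ m) (coeff_mem_bIdeal Φ ⟨y, rfl⟩ m)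

theorem isIdempotentElem_bIdeal (m : M) : IsIdempotentElem (bIdeal Φ m) :=
  le_antisymm Ideal.mul_le_right (bIdeal_le_mul_self Φ m)

/-- The pairs `(r, m)` with `r ∈ 𝔟_m`. -/
noncomputable def bSub : Submonoid (T × M) where
  carrier := {p | p.1 ∈ bIdeal Φ p.2}
  mul_mem' := by
    intro p q hp hq
    exact mul_mem_bIdeal Φ hp hq
  one_mem' := by
    change (1 : T) ∈ bIdeal Φ 1
    rw [bIdeal_one]
    exact Submodule.mem_top

theorem mem_bSub (p : T × M) : p ∈ bSub Φ ↔ p.1 ∈ bIdeal Φ p.2 := Iff.rfl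

end Idem

section Param

variable {T : Type u} [CommRing T] {M : Type u} [CommGroup M]
variable {κ : Type u} (pr : κ → T × M)

/-- The polynomial parametrisation of the subalgebra generated by homogeneous elements. -/
noncomputable def Theta : MvPolynomial κ T →ₐ[T] MonoidAlgebra T M :=
  MvPolynomial.aeval (fun j => MonoidAlgebra.single (pr j).2 (pr j).1)

/-- Coefficient and exponent of the image of a monomial. -/
noncomputable def monPair (a : κ →₀ ℕ) : T × M := a.prod fun j k => pr j ^ k

theorem Theta_monomial (a : κ →₀ ℕ) (t : T) :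
    Theta pr (MvPolynomial.monomial a t) =
      MonoidAlgebra.single (monPair pr a).2 (t * (monPair pr a).1) := by
  rw [Theta, MvPolynomial.aeval_monomial]
  have h1 : (a.prod fun j k => (MonoidAlgebra.single (pr j).2 (pr j).1 : MonoidAlgebra T M) ^ k) =
      MonoidAlgebra.singleHom (monPair pr a) := by
    rw [monPair, map_finsuppProd]
    refine Finsupp.prod_congr fun j _ => ?_
    rw [map_pow]
    rfl
  rw [h1, MonoidAlgebra.singleHom_apply]
  have h2 : algebraMap T (MonoidAlgebra T M) t = MonoidAlgebra.single 1 t := rfl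
  rw [h2, MonoidAlgebra.single_mul_single, one_mul]

theorem monPair_fst (a : κ →₀ ℕ) : (monPair pr a).1 = a.prod fun j k => (pr j).1 ^ k := by
  rw [monPair]
  exact map_finsuppProd (MonoidHom.fst T M) a _

theorem monPair_snd (a : κ →₀ ℕ) : (monPair pr a).2 = a.prod fun j k => (pr j).2 ^ k := by
  rw [monPair]
  exact map_finsuppProd (MonoidHom.snd T M) a _

theorem coeff_Theta_monomial (a : κ →₀ ℕ) (t : T) (m : M) :
    (Theta pr (MvPolynomial.monomial a t)).coeff m =
      if (monPair pr a).2 = m then t * (monPair pr a).1 else 0 := by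
  rw [Theta_monomial, MonoidAlgebra.coeff_single, Finsupp.single_apply]

end Param

section FG

variable {T : Type u} [CommRing T] {M : Type u} [CommGroup M]
variable {C : Type u} [CommRing C] [HopfAlgebra T C] (Φ : C →ₐc[T] MonoidAlgebra T M)

/-- A finite homogeneous parametrisation of the image. -/
theorem exists_param (hft : Algebra.FiniteType T C) :
    ∃ (κ : Type u) (_ : Fintype κ) (pr : κ → T × M),
      (∀ j, (pr j).1 ∈ bIdeal Φ (pr j).2) ∧ imB Φ = (Theta pr).range := by
  obtain ⟨s, hs⟩ := hft.out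
  let S₀ : Finset (T × M) :=
    s.biUnion fun y => (Φ y).coeff.support.image fun m => ((Φ y).coeff m, m)
  have hS₀ : ∀ p ∈ S₀, p.1 ∈ bIdeal Φ p.2 := by
    intro p hp
    obtain ⟨y, _, hp⟩ := Finset.mem_biUnion.1 hp
    obtain ⟨m, _, rfl⟩ := Finset.mem_image.1 hp
    exact coeff_mem_bIdeal Φ ⟨y, rfl⟩ m
  refine ⟨S₀, inferInstance, fun j => j.1, fun j => hS₀ j.1 j.2, ?_⟩
  have hrange : (Theta (fun j : S₀ => j.1)).range =
      Algebra.adjoin T (Set.range fun j : S₀ =>
        (MonoidAlgebra.single j.1.2 j.1.1 : MonoidAlgebra T M)) := by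
    rw [Theta]
    exact (Algebra.adjoin_range_eq_range_aeval T _).symm
  rw [hrange]
  apply le_antisymm
  · have h1 : imB Φ = Subalgebra.map (Φ : C →ₐ[T] MonoidAlgebra T M) ⊤ := by
      rw [Algebra.map_top]
      rfl
    rw [h1, ← hs, AlgHom.map_adjoin, Algebra.adjoin_le_iff]
    rintro _ ⟨y, hy, rfl⟩
    change Φ y ∈ _
    rw [← MonoidAlgebra.sum_coeff_single (Φ y)]
    refine Subalgebra.sum_mem _ fun m hm => Algebra.subset_adjoin ?_
    refine ⟨⟨((Φ y).coeff m, m), ?_⟩, rfl⟩
    exact Finset.mem_biUnion.2 ⟨y, hy, Finset.mem_image.2 ⟨m, hm, rfl⟩⟩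
  · rw [Algebra.adjoin_le_iff]
    rintro _ ⟨j, rfl⟩
    have := (mem_bIdeal Φ j.1.2 j.1.1).1 (hS₀ j.1 j.2)
    rw [MonoidAlgebra.smul_single, smul_eq_mul, mul_one] at this
    exact this

variable {κ : Type u} [Fintype κ] (pr : κ → T × M)
  (hpr : ∀ j, (pr j).1 ∈ bIdeal Φ (pr j).2) (hB : imB Φ = (Theta pr).range)

include hpr in
theorem monPair_mem_bSub (a : κ →₀ ℕ) : monPair pr a ∈ bSub Φ := by
  rw [monPair]
  exact SubmonoidClass.finsuppProd_mem _ _ _ fun j _ => pow_mem ((mem_bSub Φ _).2 (hpr j)) _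

include hB in
theorem exists_Theta_of_mem_bIdeal {m : M} {r : T} (hr : r ∈ bIdeal Φ m) :
    ∃ p, (Theta pr p).coeff m = r := by
  have h1 := (mem_bIdeal Φ m r).1 hr
  rw [hB] at h1
  obtain ⟨p, hp⟩ := h1
  refine ⟨p, ?_⟩
  change Theta pr p = _ at hp
  rw [hp, MonoidAlgebra.coeff_smul, Finsupp.smul_apply, MonoidAlgebra.coeff_single,
    Finsupp.single_eq_same, smul_eq_mul, mul_one]

/-- The evaluation `ℤ[X_j] → T`, `X_j ↦ r_j`. -/
noncomputable def evZ : MvPolynomial κ ℤ →+* T :=
  MvPolynomial.eval₂Hom (Int.castRingHom T) fun j => (pr j).1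

theorem evZ_monomial (a : κ →₀ ℕ) : evZ pr (MvPolynomial.monomial a 1) = (monPair pr a).1 := by
  rw [evZ, MvPolynomial.eval₂Hom_monomial, monPair_fst]
  simp

include hpr hB in
theorem bIdeal_eq_map (m : M) :
    bIdeal Φ m = Ideal.map (evZ pr)
      (Ideal.span {x | ∃ a : κ →₀ ℕ, (monPair pr a).2 = m ∧ x = MvPolynomial.monomial a 1}) := by
  apply le_antisymm
  · intro r hr
    obtain ⟨p, rfl⟩ := exists_Theta_of_mem_bIdeal Φ pr hB hr
    clear hr
    induction p using MvPolynomial.induction_on' with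
    | monomial a t =>
      rw [coeff_Theta_monomial]
      split_ifs with h
      · refine Ideal.mul_mem_left _ _ ?_
        rw [← evZ_monomial]
        exact Ideal.mem_map_of_mem _ (Ideal.subset_span ⟨a, h, rfl⟩)
      · exact zero_mem _
    | add p q hp hq =>
      rw [map_add, MonoidAlgebra.coeff_add, Finsupp.add_apply]
      exact add_mem hp hq
  · rw [Ideal.map_le_iff_le_comap, Ideal.span_le]
    rintro _ ⟨a, ha, rfl⟩
    rw [SetLike.mem_coe, Ideal.mem_comap, evZ_monomial, ← ha]
    exact monPair_mem_bSub Φ pr hpr a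

include hpr hB in
theorem bIdeal_fg_of_param (m : M) : (bIdeal Φ m).FG := by
  rw [bIdeal_eq_map Φ pr hpr hB m]
  exact Ideal.FG.map (IsNoetherian.noetherian _) _

end FG

section Final

variable {T : Type u} [CommRing T] {M : Type u} [CommGroup M]
variable {C : Type u} [CommRing C] [HopfAlgebra T C] (Φ : C →ₐc[T] MonoidAlgebra T M)

theorem bIdeal_fg (hft : Algebra.FiniteType T C) (m : M) : (bIdeal Φ m).FG := by
  obtain ⟨κ, _, pr, hpr, hB⟩ := exists_param Φ hft
  exact bIdeal_fg_of_param Φ pr hpr hB m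

theorem exists_idempotent_bIdeal (hft : Algebra.FiniteType T C) (m : M) :
    ∃ e : T, IsIdempotentElem e ∧ bIdeal Φ m = Ideal.span {e} :=
  (Ideal.isIdempotentElem_iff_of_fg _ (bIdeal_fg Φ hft m)).1 (isIdempotentElem_bIdeal Φ m)

end Final

section Partition

variable {T : Type u} [CommRing T] {M : Type u} [CommGroup M]

/-- A finite partition of `Spec T` into open and closed pieces `D(ε i)`, such that over the `i`-th
piece the ideals `𝔟 m` are `⊤` for `m ∈ N i` and `0` for `m ∉ N i`. -/
structure IsTypePartition (𝔟 : M → Ideal T) {ι : Type u} [Fintype ι] (ε : ι → T)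
    (N : ι → Subgroup M) : Prop where
  idem : ∀ i, IsIdempotentElem (ε i)
  orth : ∀ i j, i ≠ j → ε i * ε j = 0
  sum : ∑ i, ε i = 1
  mem : ∀ i m, m ∈ N i → ε i ∈ 𝔟 m
  out : ∀ i m, m ∉ N i → ∀ r ∈ 𝔟 m, ε i * r = 0

theorem IsTypePartition.map {𝔟 : M → Ideal T} {ι : Type u} [Fintype ι] {ε : ι → T}
    {N : ι → Subgroup M} (h : IsTypePartition 𝔟 ε N) {T' : Type u} [CommRing T'] (t : T →+* T') :
    IsTypePartition (fun m => (𝔟 m).map t) (fun i => t (ε i)) N where
  idem i := (h.idem i).map t
  orth i j hij := by rw [← map_mul, h.orth i j hij, map_zero]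
  sum := by rw [← map_sum, h.sum, map_one]
  mem i m hm := Ideal.mem_map_of_mem t (h.mem i m hm)
  out i m hm r hr := by
    have h1 : (𝔟 m).map t ≤ (LinearMap.ker (LinearMap.mulLeft T' (t (ε i)))).restrictScalars T' := by
      rw [Ideal.map_le_iff_le_comap]
      intro r hr
      rw [Ideal.mem_comap]
      change t (ε i) * t r = 0
      rw [← map_mul, h.out i m hm r hr, map_zero]
    exact h1 hr

variable {C : Type u} [CommRing C] [HopfAlgebra T C] (Φ : C →ₐc[T] MonoidAlgebra T M)

/-- The subgroup of those `m` with `ε ∈ 𝔟_m`, for an idempotent `ε`. -/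
noncomputable def subgroupOfIdem (ε : T) (hε : IsIdempotentElem ε) : Subgroup M where
  carrier := {m | ε ∈ bIdeal Φ m}
  mul_mem' := by
    intro a b ha hb
    have := mul_mem_bIdeal Φ ha hb
    rwa [hε.eq] at this
  one_mem' := by
    change ε ∈ bIdeal Φ 1
    rw [bIdeal_one]
    exact Submodule.mem_top
  inv_mem' := by
    intro a ha
    exact inv_mem_bIdeal Φ ha

theorem mem_subgroupOfIdem (ε : T) (hε : IsIdempotentElem ε) (m : M) :
    m ∈ subgroupOfIdem Φ ε hε ↔ ε ∈ bIdeal Φ m := Iff.rfl

theorem exists_typePartition (hft : Algebra.FiniteType T C) :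
    ∃ (ι : Type u) (_ : Fintype ι) (ε : ι → T) (N : ι → Subgroup M),
      IsTypePartition (bIdeal Φ) ε N := by
  obtain ⟨κ, _, pr, hpr, hB⟩ := exists_param Φ hft
  choose e he hbe using fun j => exists_idempotent_bIdeal Φ hft (pr j).2
  have hε : ∀ σ : κ → Bool, IsIdempotentElem (epsB e σ) := isIdempotentElem_epsB he
  refine ⟨κ → Bool, inferInstance, epsB e, fun σ => subgroupOfIdem Φ (epsB e σ) (hε σ),
    hε, fun σ σ' h => epsB_mul_of_ne he h, sum_epsB, fun σ m hm => hm, ?_⟩
  intro σ m hm r hr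
  obtain ⟨p, rfl⟩ := exists_Theta_of_mem_bIdeal Φ pr hB hr
  clear hr
  induction p using MvPolynomial.induction_on' with
  | monomial a t =>
    rw [coeff_Theta_monomial]
    split_ifs with h
    · by_cases hall : ∀ j ∈ a.support, σ j = true
      · exfalso
        apply hm
        rw [← h, monPair_snd]
        refine SubmonoidClass.finsuppProd_mem _ _ _ fun j hj => pow_mem ?_ _
        rw [mem_subgroupOfIdem, hbe j, ← epsB_mul_of_true he σ j (hall j (Finsupp.mem_support_iff.2 hj))]
        exact Ideal.mul_mem_left _ _ (Ideal.mem_span_singleton_self _)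
      · simp only [not_forall] at hall
        obtain ⟨j, hj, hσ⟩ := hall
        have hσ' : σ j = false := by simpa using hσ
        have h1 : (pr j).1 ∈ Ideal.span {e j} := hbe j ▸ hpr j
        obtain ⟨c, hc⟩ := Ideal.mem_span_singleton'.1 h1
        have h2 : (pr j).1 ∣ (monPair pr a).1 := by
          rw [monPair_fst, Finsupp.prod]
          exact (dvd_pow_self _ (Finsupp.mem_support_iff.1 hj)).trans
            (Finset.dvd_prod_of_mem _ hj)
        obtain ⟨d, hd⟩ := h2
        rw [hd, ← hc]
        calc epsB e σ * (t * (c * e j * d)) = t * c * d * (epsB e σ * e j) := by ring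
          _ = 0 := by rw [epsB_mul_of_false he σ j hσ', mul_zero]
    · exact mul_zero _
  | add p q hp hq =>
    rw [map_add, MonoidAlgebra.coeff_add, Finsupp.add_apply, mul_add, hp, hq, add_zero]

end Partition

end Groth.Agent.H9.MultT
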