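import Mathlib
import Groth.Prelude.Def_SGA3b
import Groth.Agent.Lib.Helper9.MultT.Homog

/-!
# Base change of a trivialisation `T ⊗ A ≅ T[M]` and of the coefficient ideals
-/

set_option autoImplicit false
set_option linter.unusedSectionVars false

namespace Groth.Agent.H9.MultT

open TensorProduct SGA3b

universe u

section TrivHom

variable {R : Type u} [CommRing R] {A : Type u} [CommRing A] [HopfAlgebra R A]
  {C : Type u} [CommRing C] [HopfAlgebra R C]
  {T : Type u} [CommRing T] [Algebra R T] {M : Type u} [CommGroup M]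

/-- The map `T ⊗ C → T ⊗ A ≅ T[M]`. -/
noncomputable def trivHom (e : T ⊗[R] A ≃ₐc[T] MonoidAlgebra T M) (φ : C →ₐc[R] A) :
    T ⊗[R] C →ₐc[T] MonoidAlgebra T M :=
  (e : T ⊗[R] A →ₐc[T] MonoidAlgebra T M).comp (Bialgebra.TensorProduct.map (BialgHom.id T T) φ)

theorem trivHom_apply (e : T ⊗[R] A ≃ₐc[T] MonoidAlgebra T M) (φ : C →ₐc[R] A) (y : T ⊗[R] C) :
    trivHom e φ y = e (Algebra.TensorProduct.map (AlgHom.id T T) (φ : C →ₐ[R] A) y) := rfl

theorem trivHom_tmul (e : T ⊗[R] A ≃ₐc[T] MonoidAlgebra T M) (φ : C →ₐc[R] A) (t : T) (c : C) :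
    trivHom e φ (t ⊗ₜ[R] c) = e (t ⊗ₜ[R] φ c) := rfl

theorem trivHom_tmul' (e : T ⊗[R] A ≃ₐc[T] MonoidAlgebra T M) (φ : C →ₐc[R] A) (t : T) (c : C) :
    trivHom e φ (t ⊗ₜ[R] c) = t • trivHom e φ ((1 : T) ⊗ₜ[R] c) := by
  rw [← map_smul, TensorProduct.smul_tmul', smul_eq_mul, mul_one]

end TrivHom

section BCTriv

variable {R : Type u} [CommRing R] {A : Type u} [CommRing A] [HopfAlgebra R A]
  {C : Type u} [CommRing C] [HopfAlgebra R C]
  {T : Type u} [CommRing T] [Algebra R T] {M : Type u} [CommGroup M]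
  (T' : Type u) [CommRing T'] [Algebra R T'] [Algebra T T'] [IsScalarTower R T T']

/-- Base change of a trivialisation. -/
noncomputable def bcTriv (e : T ⊗[R] A ≃ₐc[T] MonoidAlgebra T M) :
    T' ⊗[R] A ≃ₐc[T'] MonoidAlgebra T' M :=
  (Groth.Agent.H9.MT.cancelBC R T T' A).symm.trans
    ((Groth.Agent.H9.MT.bcEquiv T' e).trans (Groth.Agent.H9.MT.monAlgBC T T' M))

theorem bcTriv_tmul (e : T ⊗[R] A ≃ₐc[T] MonoidAlgebra T M) (t' : T') (a : A) :
    bcTriv T' e (t' ⊗ₜ[R] a) =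
      t' • MonoidAlgebra.mapAlgHom M (Algebra.ofId T T') (e ((1 : T) ⊗ₜ[R] a)) := by
  change Groth.Agent.H9.MT.monAlgBC T T' M (Groth.Agent.H9.MT.bcEquiv T' e
    ((Groth.Agent.H9.MT.cancelBC R T T' A).symm (t' ⊗ₜ[R] a))) = _
  rw [Groth.Agent.H9.MT.cancelBC_symm_tmul, Groth.Agent.H9.MT.bcEquiv_tmul,
    Groth.Agent.H9.MT.monAlgBC_tmul]

variable (e : T ⊗[R] A ≃ₐc[T] MonoidAlgebra T M) (φ : C →ₐc[R] A)

theorem trivHom_bcTriv_tmul (t' : T') (c : C) :
    trivHom (bcTriv T' e) φ (t' ⊗ₜ[R] c) =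
      t' • MonoidAlgebra.mapAlgHom M (Algebra.ofId T T') (trivHom e φ ((1 : T) ⊗ₜ[R] c)) := by
  rw [trivHom_tmul, bcTriv_tmul, trivHom_tmul]

theorem trivHom_bcTriv_map (y : T ⊗[R] C) :
    trivHom (bcTriv T' e) φ
        (Algebra.TensorProduct.map (IsScalarTower.toAlgHom R T T') (AlgHom.id R C) y) =
      MonoidAlgebra.mapAlgHom M (Algebra.ofId T T') (trivHom e φ y) := by
  induction y using TensorProduct.induction_on with
  | zero => simp
  | add x y hx hy => rw [map_add, map_add, map_add, map_add, hx, hy]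
  | tmul t c =>
    rw [Algebra.TensorProduct.map_tmul, trivHom_bcTriv_tmul, trivHom_tmul' e φ t c, map_smul,
      IsScalarTower.coe_toAlgHom', AlgHom.id_apply, algebraMap_smul]

theorem bIdeal_bcTriv (m : M) :
    bIdeal (trivHom (bcTriv T' e) φ) m = (bIdeal (trivHom e φ) m).map (algebraMap T T') := by
  apply le_antisymm
  · intro r' hr'
    obtain ⟨y', hy'⟩ := (mem_bIdeal _ m r').1 hr'
    replace hy' : trivHom (bcTriv T' e) φ y' = r' • MonoidAlgebra.single m 1 := hy'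
    have h1 : r' = (trivHom (bcTriv T' e) φ y').coeff m := by
      rw [hy', MonoidAlgebra.coeff_smul, Finsupp.smul_apply, MonoidAlgebra.coeff_single,
        Finsupp.single_eq_same, smul_eq_mul, mul_one]
    rw [h1]
    clear h1 hy' hr'
    induction y' using TensorProduct.induction_on with
    | zero => simp
    | add x y hx hy =>
      rw [map_add, MonoidAlgebra.coeff_add, Finsupp.add_apply]
      exact add_mem hx hy
    | tmul t' c =>
      rw [trivHom_bcTriv_tmul, MonoidAlgebra.coeff_smul, Finsupp.smul_apply,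
        MonoidAlgebra.coeff_mapAlgHom, smul_eq_mul]
      refine Ideal.mul_mem_left _ _ (Ideal.mem_map_of_mem _ ?_)
      exact coeff_mem_bIdeal _ ⟨_, rfl⟩ m
  · rw [Ideal.map_le_iff_le_comap]
    intro r hr
    obtain ⟨y, hy⟩ := (mem_bIdeal _ m r).1 hr
    replace hy : trivHom e φ y = r • MonoidAlgebra.single m 1 := hy
    rw [Ideal.mem_comap, mem_bIdeal]
    refine ⟨Algebra.TensorProduct.map (IsScalarTower.toAlgHom R T T') (AlgHom.id R C) y, ?_⟩
    change trivHom (bcTriv T' e) φ _ = _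
    rw [trivHom_bcTriv_map, hy, map_smul, MonoidAlgebra.mapAlgHom_single, map_one,
      algebraMap_smul]

end BCTriv

end Groth.Agent.H9.MultT
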