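import Mathlib
import Groth.Prelude.Def_SGA3b
import Groth.Agent.Lib.Helper9.MultT.BCTriv

/-!
# The kernel of a homomorphism from a diagonalisable group, given a type partition
-/

set_option autoImplicit false
set_option linter.unusedSectionVars false

namespace Groth.Agent.H9.MultT

open TensorProduct SGA3b

universe u

section OrthSum

variable {T : Type u} [CommRing T] {ι : Type u} [Fintype ι] {ε : ι → T}
  (hidem : ∀ i, IsIdempotentElem (ε i)) (horth : ∀ i j, i ≠ j → ε i * ε j = 0)

include hidem horth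

theorem sum_smul_mul_sum_smul {B : Type u} [CommRing B] [Algebra T B] (x y : ι → B) :
    (∑ i, ε i • x i) * (∑ j, ε j • y j) = ∑ i, ε i • (x i * y i) := by
  rw [Finset.sum_mul_sum]
  refine Finset.sum_congr rfl fun i _ => ?_
  rw [Finset.sum_eq_single i]
  · rw [smul_mul_smul_comm, (hidem i).eq]
  · intro j _ hji
    rw [smul_mul_smul_comm, horth i j (Ne.symm hji), zero_smul]
  · intro h
    exact absurd (Finset.mem_univ i) h

theorem sum_smul_tmul_sum_smul {B : Type u} [AddCommGroup B] [Module T B] (x y : ι → B) :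
    (∑ i, ε i • x i) ⊗ₜ[T] (∑ j, ε j • y j) = ∑ i, ε i • (x i ⊗ₜ[T] y i) := by
  rw [TensorProduct.sum_tmul]
  refine Finset.sum_congr rfl fun i _ => ?_
  rw [TensorProduct.tmul_sum, Finset.sum_eq_single i]
  · rw [TensorProduct.smul_tmul_smul, (hidem i).eq]
  · intro j _ hji
    rw [TensorProduct.smul_tmul_smul, horth i j (Ne.symm hji), zero_smul]
  · intro h
    exact absurd (Finset.mem_univ i) h

theorem smul_sum_smul {B : Type u} [AddCommGroup B] [Module T B] (i : ι) (x : ι → B) :
    ε i • (∑ j, ε j • x j) = ε i • x i := by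
  rw [Finset.smul_sum, Finset.sum_eq_single i]
  · rw [smul_smul, (hidem i).eq]
  · intro j _ hji
    rw [smul_smul, horth i j (Ne.symm hji), zero_smul]
  · intro h
    exact absurd (Finset.mem_univ i) h

end OrthSum

section SumHom

variable {T : Type u} [CommRing T] {ι : Type u} [Fintype ι] {ε : ι → T}
  (hidem : ∀ i, IsIdempotentElem (ε i)) (horth : ∀ i j, i ≠ j → ε i * ε j = 0)
  (hsum : ∑ i, ε i = 1) {M Q : Type u} [CommGroup M] [CommGroup Q] (γ : ι → M →* Q)

/-- `m ↦ ∑ ε_i • γ_i(m)`. -/
noncomputable def sumHom : M →* MonoidAlgebra T Q where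
  toFun m := ∑ i, ε i • MonoidAlgebra.single (γ i m) (1 : T)
  map_one' := by
    simp only [map_one]
    rw [← Finset.sum_smul, hsum, one_smul]
    rfl
  map_mul' m m' := by
    rw [sum_smul_mul_sum_smul hidem horth]
    refine Finset.sum_congr rfl fun i _ => ?_
    rw [MonoidAlgebra.single_mul_single, mul_one, map_mul]

theorem sumHom_apply (m : M) :
    sumHom hidem horth hsum γ m = ∑ i, ε i • MonoidAlgebra.single (γ i m) (1 : T) := rfl

theorem isGroupLikeElem_sumHom (m : M) : IsGroupLikeElem T (sumHom hidem horth hsum γ m) where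
  counit_eq_one := by
    rw [sumHom_apply, map_sum]
    simp only [map_smul, MonoidAlgebra.counit_single, CommSemiring.counit_apply, smul_eq_mul, mul_one]
    exact hsum
  comul_eq_tmul_self := by
    rw [sumHom_apply, sum_smul_tmul_sum_smul hidem horth, map_sum]
    refine Finset.sum_congr rfl fun i _ => ?_
    rw [map_smul, MonoidAlgebra.comul_single, CommSemiring.comul_apply, TensorProduct.map_tmul]
    rfl

/-- The bialgebra map `T[M] → T[Q]` glued from the `γ i`. -/
noncomputable def sumBialg : MonoidAlgebra T M →ₐc[T] MonoidAlgebra T Q :=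
  liftBialg (sumHom hidem horth hsum γ) (isGroupLikeElem_sumHom hidem horth hsum γ)

theorem sumBialg_single (m : M) (r : T) :
    sumBialg hidem horth hsum γ (MonoidAlgebra.single m r) =
      r • ∑ i, ε i • MonoidAlgebra.single (γ i m) (1 : T) :=
  liftBialg_single _ _ m r

theorem smul_sumBialg (i : ι) (y : MonoidAlgebra T M) :
    ε i • sumBialg hidem horth hsum γ y = ε i • MonoidAlgebra.mapDomainBialgHom T (γ i) y := by
  induction y using MonoidAlgebra.induction_linear with
  | zero => simp
  | add x y hx hy => rw [map_add, map_add, smul_add, smul_add, hx, hy]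
  | single m r =>
    rw [sumBialg_single, smul_comm, smul_sum_smul hidem horth, MonoidAlgebra.mapDomainBialgHom_single,
      smul_comm, MonoidAlgebra.smul_single, smul_eq_mul, mul_one]

end SumHom

section Main

variable {R : Type u} [CommRing R] {A : Type u} [CommRing A] [HopfAlgebra R A]
  {C : Type u} [CommRing C] [HopfAlgebra R C] (φ : C →ₐc[R] A)
  (J : Ideal A) [J.IsHopfIdeal R] (hJ : J = Ideal.map φ (RingHom.ker (Bialgebra.counitAlgHom R C)))
  (T : Type u) [CommRing T] [Algebra R T] {M : Type u} [CommGroup M]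

/-- The extension of `J` to `T ⊗ A`. -/
noncomputable def extJ : Ideal (T ⊗[R] A) :=
  J.map (Algebra.TensorProduct.includeRight : A →ₐ[R] T ⊗[R] A)

include hJ in
theorem map_sub_counit_mem (y : T ⊗[R] C) :
    Algebra.TensorProduct.map (AlgHom.id T T) (φ : C →ₐ[R] A)
      (y - algebraMap T (T ⊗[R] C) (Coalgebra.counit (R := T) y)) ∈ extJ J T := by
  induction y using TensorProduct.induction_on with
  | zero => simp
  | add x y hx hy =>
    have h : x + y - algebraMap T (T ⊗[R] C) (Coalgebra.counit (R := T) (x + y)) =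
        (x - algebraMap T _ (Coalgebra.counit (R := T) x)) +
          (y - algebraMap T _ (Coalgebra.counit (R := T) y)) := by
      rw [map_add, map_add]
      ring
    rw [h, map_add]
    exact add_mem hx hy
  | tmul t c =>
    have h1 : t ⊗ₜ[R] c - algebraMap T (T ⊗[R] C) (Coalgebra.counit (R := T) (t ⊗ₜ[R] c)) =
        t ⊗ₜ[R] (c - algebraMap R C (Coalgebra.counit (R := R) c)) := by
      rw [TensorProduct.counit_tmul, CommSemiring.counit_apply,
        Algebra.TensorProduct.algebraMap_apply, Algebra.algebraMap_self_apply,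
        TensorProduct.smul_tmul, ← Algebra.algebraMap_eq_smul_one, TensorProduct.tmul_sub]
    rw [h1, Algebra.TensorProduct.map_tmul, AlgHom.id_apply]
    have h2 : t ⊗ₜ[R] (φ : C →ₐ[R] A) (c - algebraMap R C (Coalgebra.counit (R := R) c)) =
        (t ⊗ₜ[R] (1 : A)) * (Algebra.TensorProduct.includeRight : A →ₐ[R] T ⊗[R] A)
          ((φ : C →ₐ[R] A) (c - algebraMap R C (Coalgebra.counit (R := R) c))) := by
      rw [Algebra.TensorProduct.includeRight_apply, Algebra.TensorProduct.tmul_mul_tmul, mul_one,
        one_mul]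
    rw [h2]
    refine Ideal.mul_mem_left _ _ (Ideal.mem_map_of_mem _ ?_)
    rw [hJ]
    exact Ideal.mem_map_of_mem φ (sub_counit_mem_ker c)

variable {T}

include hJ in
theorem nonempty_bialgEquiv_of_partition (e : T ⊗[R] A ≃ₐc[T] MonoidAlgebra T M)
    {ι : Type u} [Fintype ι] {ε : ι → T} {N : ι → Subgroup M}
    (hP : IsTypePartition (bIdeal (trivHom e φ)) ε N) {Q : Type u} [CommGroup Q]
    (hQ : ∀ i, ε i ≠ 0 → Nonempty (M ⧸ N i ≃* Q)) :
    Nonempty (T ⊗[R] (A ⧸ J) ≃ₐc[T] MonoidAlgebra T Q) := by
  classical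
  have hβ : ∀ i, ∃ β : M ⧸ N i →* Q, ε i ≠ 0 → Function.Bijective β := by
    intro i
    by_cases h : ε i ≠ 0
    · obtain ⟨b⟩ := hQ i h
      exact ⟨b.toMonoidHom, fun _ => b.bijective⟩
    · exact ⟨1, fun h' => absurd h' h⟩
  choose β hβ using hβ
  let γ : ι → M →* Q := fun i => (β i).comp (QuotientGroup.mk' (N i))
  have hγ1 : ∀ i m, m ∈ N i → γ i m = 1 := by
    intro i m hm
    change β i (QuotientGroup.mk' (N i) m) = 1
    have h1 : QuotientGroup.mk' (N i) m = 1 := (QuotientGroup.eq_one_iff m).2 hm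
    rw [h1, map_one]
  set W := trivHom e φ with hW
  set Ψ := sumBialg hP.idem hP.orth hP.sum γ with hΨ
  -- homogeneous elements of the image go to constants
  have hP1 : ∀ (m : M) (r : T), r ∈ bIdeal W m →
      Ψ (MonoidAlgebra.single m r) = algebraMap T (MonoidAlgebra T Q) r := by
    intro m r hr
    rw [hΨ, sumBialg_single, Finset.smul_sum]
    have h1 : ∀ i, r • ε i • (MonoidAlgebra.single (γ i m) (1 : T) : MonoidAlgebra T Q) =
        r • ε i • (1 : MonoidAlgebra T Q) := by
      intro i
      by_cases hm : m ∈ N i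
      · rw [hγ1 i m hm]
        rfl
      · rw [smul_smul, smul_smul, mul_comm, hP.out i m hm r hr, zero_smul, zero_smul]
    rw [Finset.sum_congr rfl fun i _ => h1 i, ← Finset.smul_sum, ← Finset.sum_smul, hP.sum,
      one_smul, Algebra.algebraMap_eq_smul_one]
  have hP1' : ∀ z ∈ imB W, Ψ z = algebraMap T (MonoidAlgebra T Q) (Coalgebra.counit (R := T) z) := by
    intro z hz
    have hz' : z = ∑ m ∈ z.coeff.support, MonoidAlgebra.single m (z.coeff m) :=
      (MonoidAlgebra.sum_coeff_single z).symm
    calc Ψ z = Ψ (∑ m ∈ z.coeff.support, MonoidAlgebra.single m (z.coeff m)) := by rw [← hz']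
      _ = ∑ m ∈ z.coeff.support, algebraMap T (MonoidAlgebra T Q) (z.coeff m) := by
          rw [map_sum]
          exact Finset.sum_congr rfl fun m _ => hP1 m _ (coeff_mem_bIdeal W hz m)
      _ = algebraMap T (MonoidAlgebra T Q) (Coalgebra.counit (R := T)
            (∑ m ∈ z.coeff.support, (MonoidAlgebra.single m (z.coeff m) : MonoidAlgebra T M))) := by
          rw [map_sum, map_sum]
          refine Finset.sum_congr rfl fun m _ => ?_
          rw [MonoidAlgebra.counit_single, CommSemiring.counit_apply]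
      _ = _ := by rw [← hz']
  -- the two projections
  set π₁ : T ⊗[R] A →ₐc[T] T ⊗[R] (A ⧸ J) := Bialgebra.TensorProduct.map (BialgHom.id T T)
        (Bialgebra.Quotient.mkBialgHom (R := R) J) with hπ₁
  set π₂ : T ⊗[R] A →ₐc[T] MonoidAlgebra T Q :=
    Ψ.comp (e : T ⊗[R] A →ₐc[T] MonoidAlgebra T M) with hπ₂
  have hker₁ : RingHom.ker (π₁ : T ⊗[R] A →ₐ[T] T ⊗[R] (A ⧸ J)) = extJ J T := by
    have h := Algebra.TensorProduct.lTensor_ker (A := T) (Ideal.Quotient.mkₐ R J)
      Ideal.Quotient.mk_surjective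
    have h' : RingHom.ker (Ideal.Quotient.mkₐ R J) = J := Ideal.Quotient.mkₐ_ker R J
    rw [h'] at h
    rw [extJ, ← h]
    rfl
  have hsurj₁ : Function.Surjective (π₁ : T ⊗[R] A →ₐ[T] T ⊗[R] (A ⧸ J)) := by
    have := Algebra.TensorProduct.map_surjective (f := AlgHom.id T T)
      (g := Ideal.Quotient.mkₐ R J) Function.surjective_id Ideal.Quotient.mk_surjective
    exact this
  have hΨsurj : Function.Surjective Ψ := by
    intro y
    induction y using MonoidAlgebra.induction_linear with
    | zero => exact ⟨0, map_zero _⟩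
    | add x y hx hy =>
      obtain ⟨a, rfl⟩ := hx
      obtain ⟨b, rfl⟩ := hy
      exact ⟨a + b, map_add _ _ _⟩
    | single q r =>
      have hm : ∀ i, ∃ m : M, ε i ≠ 0 → γ i m = q := by
        intro i
        by_cases h : ε i ≠ 0
        · obtain ⟨c, hc⟩ := (hβ i h).2 q
          obtain ⟨m, rfl⟩ := QuotientGroup.mk'_surjective (N i) c
          exact ⟨m, fun _ => hc⟩
        · exact ⟨1, fun h' => absurd h' h⟩
      choose mm hmm using hm
      refine ⟨r • ∑ i, MonoidAlgebra.single (mm i) (ε i), ?_⟩
      rw [map_smul, map_sum]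
      have h1 : ∀ i, Ψ (MonoidAlgebra.single (mm i) (ε i)) =
          ε i • (MonoidAlgebra.single q (1 : T) : MonoidAlgebra T Q) := by
        intro i
        rw [hΨ, sumBialg_single, smul_sum_smul hP.idem hP.orth]
        by_cases h : ε i ≠ 0
        · rw [hmm i h]
        · rw [not_not.1 h, zero_smul, zero_smul]
      rw [Finset.sum_congr rfl fun i _ => h1 i, ← Finset.sum_smul, hP.sum, one_smul,
        MonoidAlgebra.smul_single, smul_eq_mul, mul_one]
  have hsurj₂ : Function.Surjective (π₂ : T ⊗[R] A →ₐ[T] MonoidAlgebra T Q) := by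
    intro y
    obtain ⟨x, rfl⟩ := hΨsurj y
    exact ⟨e.symm x, by change Ψ (e (e.symm x)) = Ψ x; rw [e.apply_symm_apply]⟩
  -- `ε i • augIdeal (N i)` lies in the image of the extension of `J`
  have haug : ∀ i, ∀ z ∈ augIdeal T (N i), e.symm (ε i • z) ∈ extJ J T := by
    intro i z hz
    rw [augIdeal] at hz
    induction hz using Submodule.span_induction with
    | mem z hz =>
      obtain ⟨n, hn, rfl⟩ := hz
      obtain ⟨y, hy⟩ := (mem_bIdeal W n (ε i)).1 (hP.mem i n hn)
      replace hy : W y = ε i • MonoidAlgebra.single n 1 := hy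
      have hc : Coalgebra.counit (R := T) y = ε i := by
        rw [← CoalgHomClass.counit_comp_apply W y, hy, map_smul, MonoidAlgebra.counit_single,
          CommSemiring.counit_apply, smul_eq_mul, mul_one]
      have h1 : ε i • (MonoidAlgebra.single n 1 - 1 : MonoidAlgebra T M) =
          W (y - algebraMap T (T ⊗[R] C) (Coalgebra.counit (R := T) y)) := by
        rw [map_sub, hy, hc, AlgHomClass.commutes W, smul_sub, Algebra.algebraMap_eq_smul_one]
      rw [h1, hW, trivHom_apply, e.symm_apply_apply]
      exact map_sub_counit_mem φ J hJ T y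
    | zero => rw [smul_zero, map_zero e.symm]; exact zero_mem _
    | add x y _ _ hx hy => rw [smul_add, map_add e.symm]; exact add_mem hx hy
    | smul a x _ hx =>
      rw [smul_eq_mul, ← mul_smul_comm, map_mul e.symm]
      exact Ideal.mul_mem_left _ _ hx
  have hker : RingHom.ker (π₁ : T ⊗[R] A →ₐ[T] T ⊗[R] (A ⧸ J)) =
      RingHom.ker (π₂ : T ⊗[R] A →ₐ[T] MonoidAlgebra T Q) := by
    rw [hker₁]
    apply le_antisymm
    · rw [extJ, Ideal.map_le_iff_le_comap, hJ, Ideal.map_le_iff_le_comap]
      intro c hc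
      rw [RingHom.mem_ker, Bialgebra.counitAlgHom_apply] at hc
      rw [Ideal.mem_comap, Ideal.mem_comap, RingHom.mem_ker]
      change Ψ (W ((1 : T) ⊗ₜ[R] c)) = 0
      have hmem : W ((1 : T) ⊗ₜ[R] c) ∈ imB W := ⟨(1 : T) ⊗ₜ[R] c, rfl⟩
      rw [hP1' _ hmem, CoalgHomClass.counit_comp_apply W, TensorProduct.counit_tmul, hc,
        zero_smul, map_zero]
    · intro x hx
      rw [RingHom.mem_ker] at hx
      replace hx : Ψ (e x) = 0 := hx
      have hall : ∀ i, ε i • x ∈ extJ J T := by
        intro i
        by_cases h : ε i = 0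
        · rw [h, zero_smul]
          exact zero_mem _
        have h1 : ε i • MonoidAlgebra.mapDomainBialgHom T (γ i) (e x) = 0 := by
          rw [← smul_sumBialg hP.idem hP.orth hP.sum γ, ← hΨ, hx, smul_zero]
        rw [← map_smul, ← map_smul e] at h1
        have h2 : MonoidAlgebra.mapDomainBialgHom T (QuotientGroup.mk' (N i)) (e (ε i • x)) = 0 := by
          have h3 : MonoidAlgebra.mapDomainBialgHom T (γ i) (e (ε i • x)) =
              MonoidAlgebra.mapDomainBialgHom T (β i)
                (MonoidAlgebra.mapDomainBialgHom T (QuotientGroup.mk' (N i)) (e (ε i • x))) := by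
            rw [MonoidAlgebra.mapDomainBialgHom_mapDomainBialgHom]
          rw [h3] at h1
          have hinj : Function.Injective (MonoidAlgebra.mapDomainBialgHom T (β i)) :=
            MonoidAlgebra.mapDomain_injective (hβ i h).1
          exact hinj (h1.trans (map_zero _).symm)
        rw [← RingHom.mem_ker, ker_mapDomain_mk] at h2
        have h4 := haug i _ h2
        rw [← map_smul e, e.symm_apply_apply, smul_smul, (hP.idem i).eq] at h4
        exact h4
      have hx' : x = ∑ i, ε i • x := by rw [← Finset.sum_smul, hP.sum, one_smul]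
      rw [hx']
      exact Ideal.sum_mem _ fun i _ => hall i
  exact ⟨bialgEquivOfKerEq π₁ π₂ hsurj₁ hsurj₂ hker⟩

end Main

end Groth.Agent.H9.MultT
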