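import Mathlib
import Groth.Prelude.Def_SGA3b
import Groth.Agent.Lib.Helper9.MultT.KerF

/-!
# Descent of the type partition along a faithfully flat map
-/

set_option autoImplicit false
set_option linter.unusedSectionVars false

namespace Groth.Agent.H9.MultT

open TensorProduct SGA3b

universe u

attribute [local instance] Classical.propDecidable

section GroupOfAlg

variable {K : Type u} [Field K] {G H : Type u} [CommGroup G] [CommGroup H]

/-- Over a field, isomorphic group algebras (as bialgebras) have isomorphic groups. -/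
noncomputable def mulEquivOfBialgEquiv (E : MonoidAlgebra K G ≃ₐc[K] MonoidAlgebra K H) : G ≃* H where
  toFun := MonoidAlgebra.mapDomainOfBialgHom (E : MonoidAlgebra K G →ₐc[K] MonoidAlgebra K H)
  invFun := MonoidAlgebra.mapDomainOfBialgHom (E.symm : MonoidAlgebra K H →ₐc[K] MonoidAlgebra K G)
  left_inv g := by
    have h : (E.symm : MonoidAlgebra K H →ₐc[K] MonoidAlgebra K G).comp
        (E : MonoidAlgebra K G →ₐc[K] MonoidAlgebra K H) = BialgHom.id K _ := by
      apply BialgHom.ext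
      intro x
      exact E.symm_apply_apply x
    have h2 := MonoidAlgebra.mapDomainOfBialgHom_comp
      (E.symm : MonoidAlgebra K H →ₐc[K] MonoidAlgebra K G)
      (E : MonoidAlgebra K G →ₐc[K] MonoidAlgebra K H)
    rw [h, MonoidAlgebra.mapDomainOfBialgHom_id] at h2
    exact (DFunLike.congr_fun h2 g).symm
  right_inv g := by
    have h : (E : MonoidAlgebra K G →ₐc[K] MonoidAlgebra K H).comp
        (E.symm : MonoidAlgebra K H →ₐc[K] MonoidAlgebra K G) = BialgHom.id K _ := by
      apply BialgHom.ext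
      intro x
      exact E.apply_symm_apply x
    have h2 := MonoidAlgebra.mapDomainOfBialgHom_comp
      (E : MonoidAlgebra K G →ₐc[K] MonoidAlgebra K H)
      (E.symm : MonoidAlgebra K H →ₐc[K] MonoidAlgebra K G)
    rw [h, MonoidAlgebra.mapDomainOfBialgHom_id] at h2
    exact (DFunLike.congr_fun h2 g).symm
  map_mul' := map_mul _

end GroupOfAlg

section BC

variable {R : Type u} [CommRing R] {A : Type u} [CommRing A] [HopfAlgebra R A]
  {C : Type u} [CommRing C] [HopfAlgebra R C] (φ : C →ₐc[R] A)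
  {T : Type u} [CommRing T] [Algebra R T] {M : Type u} [CommGroup M]
  (e : T ⊗[R] A ≃ₐc[T] MonoidAlgebra T M)

theorem IsTypePartition.bcTriv {ι : Type u} [Fintype ι] {ε : ι → T} {N : ι → Subgroup M}
    (hP : IsTypePartition (bIdeal (trivHom e φ)) ε N)
    (T' : Type u) [CommRing T'] [Algebra R T'] [Algebra T T'] [IsScalarTower R T T'] :
    IsTypePartition (bIdeal (trivHom (bcTriv T' e) φ)) (fun i => algebraMap T T' (ε i)) N := by
  have h := hP.map (algebraMap T T')
  have h2 : (fun m => (bIdeal (trivHom e φ) m).map (algebraMap T T')) =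
      bIdeal (trivHom (Groth.Agent.H9.MultT.bcTriv T' e) φ) :=
    funext fun m => (bIdeal_bcTriv T' e φ m).symm
  rw [h2] at h
  exact h

end BC

section Descent

variable {R : Type u} [CommRing R] {A : Type u} [CommRing A] [HopfAlgebra R A]
  {C : Type u} [CommRing C] [HopfAlgebra R C] (φ : C →ₐc[R] A)
  (J : Ideal A) [J.IsHopfIdeal R] (hJ : J = Ideal.map φ (RingHom.ker (Bialgebra.counitAlgHom R C)))
  {R₁ : Type u} [CommRing R₁] [Algebra R R₁]
  {T : Type u} [CommRing T] [Algebra R T] [Algebra R₁ T] [IsScalarTower R R₁ T]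
  {M : Type u} [CommGroup M] (e : T ⊗[R] A ≃ₐc[T] MonoidAlgebra T M)
  {ι : Type u} [Fintype ι] {ε : ι → T} {N : ι → Subgroup M}
  (hP : IsTypePartition (bIdeal (trivHom e φ)) ε N)

include hJ hP

/-- A field-valued point of `T` at which `ε i` does not vanish computes the type `M ⧸ N i`. -/
theorem nonempty_bialgEquiv_of_point (K : Type u) [Field K] [Algebra R K] (t : T →+* K)
    (ht : ∀ r, t (algebraMap R T r) = algebraMap R K r) (i : ι) (hi : t (ε i) = 1) :
    Nonempty (K ⊗[R] (A ⧸ J) ≃ₐc[K] MonoidAlgebra K (M ⧸ N i)) := by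
  let _ : Algebra T K := t.toAlgebra
  have : IsScalarTower R T K := IsScalarTower.of_algebraMap_eq fun r => (ht r).symm
  refine nonempty_bialgEquiv_of_partition φ J hJ (bcTriv K e) (hP.bcTriv φ e K) ?_
  intro k hk
  by_cases hki : k = i
  · subst hki
    exact ⟨MulEquiv.refl _⟩
  · exfalso
    apply hk
    have h1 : algebraMap T K (ε k) * algebraMap T K (ε i) = 0 := by
      rw [← map_mul, hP.orth k i hki, map_zero]
    have h2 : algebraMap T K (ε i) = 1 := hi
    rw [h2, mul_one] at h1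
    exact h1

theorem nonempty_mulEquiv_of_point (K : Type u) [Field K] (t : T ⊗[R₁] T →+* K) (i j : ι)
    (htu : t (ε i ⊗ₜ[R₁] ε j) = 1) : Nonempty (M ⧸ N i ≃* M ⧸ N j) := by
  let t₁ : T →+* K := t.comp Algebra.TensorProduct.includeLeftRingHom
  let t₂ : T →+* K := t.comp (Algebra.TensorProduct.includeRight : T →ₐ[R₁] T ⊗[R₁] T).toRingHom
  have h12 : t₁ (ε i) * t₂ (ε j) = 1 := by
    change t (ε i ⊗ₜ[R₁] 1) * t (1 ⊗ₜ[R₁] ε j) = 1
    rw [← map_mul, Algebra.TensorProduct.tmul_mul_tmul, mul_one, one_mul]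
    exact htu
  have h1 : t₁ (ε i) = 1 := by
    have hid : t₁ (ε i) * t₁ (ε i) = t₁ (ε i) := by rw [← map_mul, (hP.idem i).eq]
    calc t₁ (ε i) = t₁ (ε i) * (t₁ (ε i) * t₂ (ε j)) := by rw [h12, mul_one]
      _ = (t₁ (ε i) * t₁ (ε i)) * t₂ (ε j) := by ring
      _ = 1 := by rw [hid, h12]
  have h2 : t₂ (ε j) = 1 := by
    rw [h1, one_mul] at h12
    exact h12
  let _ : Algebra R K := (t₁.comp (algebraMap R T)).toAlgebra
  have ht₁ : ∀ r, t₁ (algebraMap R T r) = algebraMap R K r := fun r => rfl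
  have ht₂ : ∀ r, t₂ (algebraMap R T r) = algebraMap R K r := by
    intro r
    change t (1 ⊗ₜ[R₁] algebraMap R T r) = t (algebraMap R T r ⊗ₜ[R₁] 1)
    congr 1
    rw [IsScalarTower.algebraMap_apply R R₁ T, Algebra.algebraMap_eq_smul_one,
      TensorProduct.smul_tmul]
  obtain ⟨E₁⟩ := nonempty_bialgEquiv_of_point φ J hJ e hP K t₁ ht₁ i h1
  obtain ⟨E₂⟩ := nonempty_bialgEquiv_of_point φ J hJ e hP K t₂ ht₂ j h2
  exact ⟨mulEquivOfBialgEquiv (E₁.symm.trans E₂)⟩

theorem nonempty_mulEquiv_of_tmul_ne_zero (i j : ι) (h : ε i ⊗ₜ[R₁] ε j ≠ 0) :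
    Nonempty (M ⧸ N i ≃* M ⧸ N j) := by
  set u : T ⊗[R₁] T := ε i ⊗ₜ[R₁] ε j with hu
  have hidem : IsIdempotentElem u := by
    rw [IsIdempotentElem, hu, Algebra.TensorProduct.tmul_mul_tmul, (hP.idem i).eq, (hP.idem j).eq]
  have hne : Ideal.span {1 - u} ≠ ⊤ := by
    intro htop
    rw [Ideal.eq_top_iff_one, Ideal.mem_span_singleton'] at htop
    obtain ⟨a, ha⟩ := htop
    apply h
    calc u = (a * (1 - u)) * u := by rw [ha, one_mul]
      _ = a * (u - u * u) := by ring
      _ = 0 := by rw [hidem.eq, sub_self, mul_zero]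
  obtain ⟨𝔪, h𝔪, hle⟩ := Ideal.exists_le_maximal _ hne
  let _ : Field ((T ⊗[R₁] T) ⧸ 𝔪) := Ideal.Quotient.field 𝔪
  have htu : (Ideal.Quotient.mk 𝔪) u = 1 := by
    have h1 : 1 - u ∈ 𝔪 := hle (Ideal.mem_span_singleton_self _)
    have h0 : (Ideal.Quotient.mk 𝔪) (1 - u) = 0 := Ideal.Quotient.eq_zero_iff_mem.2 h1
    rw [map_sub, map_one, sub_eq_zero] at h0
    exact h0.symm
  exact nonempty_mulEquiv_of_point φ J hJ e hP _ (Ideal.Quotient.mk 𝔪) i j htu

end Descent

section Core

variable {R : Type u} [CommRing R] {A : Type u} [CommRing A] [HopfAlgebra R A]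
  {C : Type u} [CommRing C] [HopfAlgebra R C] (φ : C →ₐc[R] A)
  (J : Ideal A) [J.IsHopfIdeal R] (hJ : J = Ideal.map φ (RingHom.ker (Bialgebra.counitAlgHom R C)))
  {R₁ : Type u} [CommRing R₁] [Algebra R R₁]
  {T : Type u} [CommRing T] [Algebra R T] [Algebra R₁ T] [IsScalarTower R R₁ T]
  [Module.FaithfullyFlat R₁ T]
  {M : Type u} [CommGroup M] (e : T ⊗[R] A ≃ₐc[T] MonoidAlgebra T M)

include hJ e in
theorem exists_descended_partition (hC : Algebra.FiniteType R C) :
    ∃ (ι : Type u) (_ : Fintype ι) (ebar : ι → R₁) (N : ι → Subgroup M),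
      Ideal.span (Set.range ebar) = ⊤ ∧ (∀ i, IsIdempotentElem (ebar i)) ∧
      ∀ (i : ι) (T' : Type u) [CommRing T'] [Algebra R T'] [Algebra T T'] [IsScalarTower R T T'],
        algebraMap T T' (algebraMap R₁ T (ebar i)) = 1 →
        Nonempty (T' ⊗[R] (A ⧸ J) ≃ₐc[T'] MonoidAlgebra T' (M ⧸ N i)) := by
  have hft : Algebra.FiniteType T (T ⊗[R] C) := inferInstance
  obtain ⟨ι, _, ε, N, hP⟩ := exists_typePartition (trivHom e φ) hft
  let r : ι → ι → Prop := fun i j => Nonempty (M ⧸ N i ≃* M ⧸ N j)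
  have hrefl : ∀ i, r i i := fun i => ⟨MulEquiv.refl _⟩
  have hsymm : ∀ i j, r i j → r j i := fun i j ⟨E⟩ => ⟨E.symm⟩
  have htrans : ∀ i j k, r i j → r j k → r i k := fun i j k ⟨E⟩ ⟨F⟩ => ⟨E.trans F⟩
  let F : ι → Finset ι := fun i => Finset.univ.filter (r i)
  have hF : ∀ i j, j ∈ F i ↔ r i j := fun i j => by simp [F]
  let εcl : ι → T := fun i => ∑ j ∈ F i, ε j
  have hzero : ∀ j k, ¬ r j k → ε j ⊗ₜ[R₁] ε k = 0 := by
    intro j k hjk
    by_contra h
    exact hjk (nonempty_mulEquiv_of_tmul_ne_zero φ J hJ e hP j k h)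
  have hdesc : ∀ i, εcl i ⊗ₜ[R₁] (1 : T) = (1 : T) ⊗ₜ[R₁] εcl i := by
    intro i
    have h1 : εcl i ⊗ₜ[R₁] (1 : T) = ∑ j ∈ F i, ∑ k ∈ F i, ε j ⊗ₜ[R₁] ε k := by
      rw [← hP.sum, TensorProduct.sum_tmul]
      refine Finset.sum_congr rfl fun j hj => ?_
      rw [TensorProduct.tmul_sum]
      refine (Finset.sum_subset (Finset.subset_univ (F i)) fun k _ hk => ?_).symm
      refine hzero j k fun hjk => hk ((hF i k).2 (htrans i j k ((hF i j).1 hj) hjk))
    have h2 : (1 : T) ⊗ₜ[R₁] εcl i = ∑ j ∈ F i, ∑ k ∈ F i, ε j ⊗ₜ[R₁] ε k := by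
      rw [← hP.sum, TensorProduct.sum_tmul]
      refine (Finset.sum_subset (Finset.subset_univ (F i)) fun j _ hj => ?_).symm.trans ?_
      · rw [TensorProduct.tmul_sum]
        refine Finset.sum_eq_zero fun k hk => ?_
        refine hzero j k fun hjk => hj ((hF i j).2 ?_)
        exact htrans i k j ((hF i k).1 hk) (hsymm j k hjk)
      · exact Finset.sum_congr rfl fun j _ => TensorProduct.tmul_sum _ _ _
    rw [h1, h2]
  have hex : ∀ i, ∃ x : R₁, algebraMap R₁ T x = εcl i := by
    intro i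
    have h1 : Algebra.TensorProduct.includeLeftSubRight R₁ T (εcl i) = 0 := by
      rw [Algebra.TensorProduct.includeLeftSubRight_apply, hdesc, sub_self]
    obtain ⟨x, hx⟩ := (Algebra.IsEffective.of_faithfullyFlat R₁ T (εcl i)).1 h1
    exact ⟨x, hx⟩
  choose ebar hebar using hex
  have hmul : ∀ i, ε i * εcl i = ε i := by
    intro i
    change ε i * ∑ j ∈ F i, ε j = ε i
    rw [Finset.mul_sum, Finset.sum_eq_single i]
    · exact (hP.idem i).eq
    · intro j _ hji
      exact hP.orth i j (Ne.symm hji)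
    · intro h
      exact absurd ((hF i i).2 (hrefl i)) h
  have hmul0 : ∀ i k, ¬ r i k → ε k * εcl i = 0 := by
    intro i k hik
    change ε k * ∑ j ∈ F i, ε j = 0
    rw [Finset.mul_sum]
    refine Finset.sum_eq_zero fun j hj => hP.orth k j ?_
    rintro rfl
    exact hik ((hF i k).1 hj)
  have hcl_idem : ∀ i, εcl i * εcl i = εcl i := by
    intro i
    change (∑ j ∈ F i, ε j) * εcl i = ∑ j ∈ F i, ε j
    rw [Finset.sum_mul]
    refine Finset.sum_congr rfl fun j hj => ?_
    by_cases hji : r i j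
    · change ε j * ∑ k ∈ F i, ε k = ε j
      rw [Finset.mul_sum, Finset.sum_eq_single j]
      · exact (hP.idem j).eq
      · intro k _ hkj
        exact hP.orth j k (Ne.symm hkj)
      · intro h
        exact absurd hj h
    · exact absurd ((hF i j).1 hj) hji
  have hinj : Function.Injective (algebraMap R₁ T) := FaithfulSMul.algebraMap_injective R₁ T
  refine ⟨ι, inferInstance, ebar, N, ?_, ?_, ?_⟩
  · have h1 : (Ideal.span (Set.range ebar)).map (algebraMap R₁ T) = ⊤ := by
      rw [Ideal.eq_top_iff_one, ← hP.sum]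
      refine Ideal.sum_mem _ fun i _ => ?_
      rw [← hmul i, ← hebar i]
      exact Ideal.mul_mem_left _ _ (Ideal.mem_map_of_mem _ (Ideal.subset_span ⟨i, rfl⟩))
    rw [← Ideal.comap_map_eq_self_of_faithfullyFlat (B := T) (Ideal.span (Set.range ebar)), h1,
      Ideal.comap_top]
  · intro i
    apply hinj
    rw [map_mul, hebar i]
    exact hcl_idem i
  · intro i T' _ _ _ _ h1
    have hP' := hP.bcTriv φ e T'
    refine nonempty_bialgEquiv_of_partition φ J hJ (bcTriv T' e) hP' ?_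
    intro k hk
    by_contra hr
    have hik : ¬ r i k := fun h => hr (hsymm i k h)
    apply hk
    calc algebraMap T T' (ε k) = algebraMap T T' (ε k) * algebraMap T T' (algebraMap R₁ T (ebar i)) := by
          rw [h1, mul_one]
      _ = algebraMap T T' (ε k * εcl i) := by rw [hebar i, map_mul]
      _ = 0 := by rw [hmul0 i k hik, map_zero]

end Core

end Groth.Agent.H9.MultT
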