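import Mathlib
import Groth.Prelude.Def_SGA3b
import Groth.Agent.Lib.Helper9.MultT.KerCore

/-!
# Rigidity over a local base: a homomorphism from a group of multiplicative type to an affine
group of finite type which is trivial on the closed fibre is trivial
-/

set_option autoImplicit false
set_option linter.unusedSectionVars false

namespace Groth.Agent.H9.MultT

open TensorProduct SGA3b

universe u

attribute [local instance] Classical.propDecidable

section RingDescent

variable {R₁ : Type u} [CommRing R₁] {T : Type u} [CommRing T] [Algebra R₁ T]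
  {ι : Type u} [Fintype ι] {ε : ι → T}

/-- A non-zero `ε i ⊗ ε j` has a field-valued point. -/
theorem exists_point_of_tmul_ne_zero (hidem : ∀ i, IsIdempotentElem (ε i)) (i j : ι)
    (h : ε i ⊗ₜ[R₁] ε j ≠ 0) :
    ∃ (K : Type u) (_ : Field K) (t : T ⊗[R₁] T →+* K),
      t (ε i ⊗ₜ[R₁] 1) = 1 ∧ t (1 ⊗ₜ[R₁] ε j) = 1 := by
  set u : T ⊗[R₁] T := ε i ⊗ₜ[R₁] ε j with hu
  have hidemu : IsIdempotentElem u := by
    rw [IsIdempotentElem, hu, Algebra.TensorProduct.tmul_mul_tmul, (hidem i).eq, (hidem j).eq]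
  have hne : Ideal.span {1 - u} ≠ ⊤ := by
    intro htop
    rw [Ideal.eq_top_iff_one, Ideal.mem_span_singleton'] at htop
    obtain ⟨a, ha⟩ := htop
    apply h
    calc u = (a * (1 - u)) * u := by rw [ha, one_mul]
      _ = a * (u - u * u) := by ring
      _ = 0 := by rw [hidemu.eq, sub_self, mul_zero]
  obtain ⟨𝔪, h𝔪, hle⟩ := Ideal.exists_le_maximal _ hne
  let _ : Field ((T ⊗[R₁] T) ⧸ 𝔪) := Ideal.Quotient.field 𝔪
  have htu : (Ideal.Quotient.mk 𝔪) u = 1 := by
    have h1 : 1 - u ∈ 𝔪 := hle (Ideal.mem_span_singleton_self _)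
    have h0 : (Ideal.Quotient.mk 𝔪) (1 - u) = 0 := Ideal.Quotient.eq_zero_iff_mem.2 h1
    rw [map_sub, map_one, sub_eq_zero] at h0
    exact h0.symm
  set t : T ⊗[R₁] T →+* (T ⊗[R₁] T) ⧸ 𝔪 := Ideal.Quotient.mk 𝔪 with ht
  have h12 : t (ε i ⊗ₜ[R₁] 1) * t (1 ⊗ₜ[R₁] ε j) = 1 := by
    rw [← map_mul, Algebra.TensorProduct.tmul_mul_tmul, mul_one, one_mul]
    exact htu
  have h1 : t (ε i ⊗ₜ[R₁] 1) = 1 := by
    have hid : t (ε i ⊗ₜ[R₁] 1) * t (ε i ⊗ₜ[R₁] 1) = t (ε i ⊗ₜ[R₁] 1) := by
      rw [← map_mul, Algebra.TensorProduct.tmul_mul_tmul, (hidem i).eq, mul_one]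
    calc t (ε i ⊗ₜ[R₁] 1) = t (ε i ⊗ₜ[R₁] 1) * (t (ε i ⊗ₜ[R₁] 1) * t (1 ⊗ₜ[R₁] ε j)) := by
          rw [h12, mul_one]
      _ = (t (ε i ⊗ₜ[R₁] 1) * t (ε i ⊗ₜ[R₁] 1)) * t (1 ⊗ₜ[R₁] ε j) := by ring
      _ = 1 := by rw [hid, h12]
  have h2 : t (1 ⊗ₜ[R₁] ε j) = 1 := by
    rw [h1, one_mul] at h12
    exact h12
  exact ⟨_, inferInstance, t, h1, h2⟩

variable [Module.FaithfullyFlat R₁ T]

/-- A union of pieces of the partition which is saturated for the relation "meet over `R₁`"
descends to an idempotent of `R₁`. -/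
theorem exists_descent_of_saturated (hidem : ∀ i, IsIdempotentElem (ε i))
    (horth : ∀ i j, i ≠ j → ε i * ε j = 0) (hsum : ∑ i, ε i = 1) (F : Finset ι)
    (hF : ∀ j ∈ F, ∀ k, k ∉ F → ε j ⊗ₜ[R₁] ε k = 0 ∧ ε k ⊗ₜ[R₁] ε j = 0) :
    ∃ x : R₁, algebraMap R₁ T x = ∑ j ∈ F, ε j ∧ IsIdempotentElem x := by
  have h1 : (∑ j ∈ F, ε j) ⊗ₜ[R₁] (1 : T) = ∑ j ∈ F, ∑ k ∈ F, ε j ⊗ₜ[R₁] ε k := by
    rw [← hsum, TensorProduct.sum_tmul]
    refine Finset.sum_congr rfl fun j hj => ?_
    rw [TensorProduct.tmul_sum]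
    exact (Finset.sum_subset (Finset.subset_univ F) fun k _ hk => (hF j hj k hk).1).symm
  have h2 : (1 : T) ⊗ₜ[R₁] (∑ j ∈ F, ε j) = ∑ j ∈ F, ∑ k ∈ F, ε j ⊗ₜ[R₁] ε k := by
    rw [← hsum, TensorProduct.sum_tmul]
    refine (Finset.sum_subset (Finset.subset_univ F) fun j _ hj => ?_).symm.trans ?_
    · rw [TensorProduct.tmul_sum]
      exact Finset.sum_eq_zero fun k hk => (hF k hk j hj).2
    · exact Finset.sum_congr rfl fun j _ => TensorProduct.tmul_sum _ _ _
  have h3 : Algebra.TensorProduct.includeLeftSubRight R₁ T (∑ j ∈ F, ε j) = 0 := by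
    rw [Algebra.TensorProduct.includeLeftSubRight_apply, h1, h2, sub_self]
  obtain ⟨x, hx⟩ := (Algebra.IsEffective.of_faithfullyFlat R₁ T (∑ j ∈ F, ε j)).1 h3
  replace hx : algebraMap R₁ T x = ∑ j ∈ F, ε j := hx
  refine ⟨x, hx, ?_⟩
  apply FaithfulSMul.algebraMap_injective R₁ T
  rw [map_mul, hx, Finset.sum_mul_sum]
  refine Finset.sum_congr rfl fun j hj => ?_
  rw [Finset.sum_eq_single j]
  · exact (hidem j).eq
  · intro k _ hkj
    exact horth j k (Ne.symm hkj)
  · intro h
    exact absurd hj h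

end RingDescent

section Triv

variable {R : Type u} [CommRing R] {A : Type u} [CommRing A] [HopfAlgebra R A]
  {C : Type u} [CommRing C] [HopfAlgebra R C] (φ : C →ₐc[R] A)

/-- The homomorphism becomes trivial after base change to `T`. -/
def IsTrivOver (T : Type u) [CommRing T] [Algebra R T] : Prop :=
  ∀ c : C, (1 : T) ⊗ₜ[R] φ c = (1 : T) ⊗ₜ[R] algebraMap R A (Coalgebra.counit (R := R) c)

variable {T : Type u} [CommRing T] [Algebra R T] {M : Type u} [CommGroup M]
  (e : T ⊗[R] A ≃ₐc[T] MonoidAlgebra T M)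

theorem e_one_tmul_algebraMap (r : R) :
    e ((1 : T) ⊗ₜ[R] algebraMap R A r) = algebraMap T (MonoidAlgebra T M) (algebraMap R T r) := by
  have h1 : (1 : T) ⊗ₜ[R] algebraMap R A r = algebraMap T (T ⊗[R] A) (algebraMap R T r) := by
    rw [Algebra.TensorProduct.algebraMap_apply, Algebra.algebraMap_self_apply,
      Algebra.algebraMap_eq_smul_one, Algebra.algebraMap_eq_smul_one (A := T),
      TensorProduct.smul_tmul]
  rw [h1]
  exact AlgHomClass.commutes e _

theorem trivHom_eq_counit_iff :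
    (∀ y : T ⊗[R] C, trivHom e φ y =
      algebraMap T (MonoidAlgebra T M) (Coalgebra.counit (R := T) y)) ↔ IsTrivOver φ T := by
  constructor
  · intro h c
    apply EquivLike.injective e
    have h1 := h ((1 : T) ⊗ₜ[R] c)
    rw [trivHom_tmul, TensorProduct.counit_tmul, CommSemiring.counit_apply,
      ← Algebra.algebraMap_eq_smul_one] at h1
    rw [h1, e_one_tmul_algebraMap]
  · intro h y
    induction y using TensorProduct.induction_on with
    | zero => simp
    | add x y hx hy => rw [map_add, map_add, map_add, hx, hy]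
    | tmul t c =>
      rw [trivHom_tmul', trivHom_tmul, h c, e_one_tmul_algebraMap, TensorProduct.counit_tmul,
        CommSemiring.counit_apply, Algebra.smul_def, ← map_mul, Algebra.smul_def, mul_comm]

end Triv

section Bot

variable {T : Type u} [CommRing T] {M : Type u} [CommGroup M]
variable {C : Type u} [CommRing C] [HopfAlgebra T C] (Φ : C →ₐc[T] MonoidAlgebra T M)

theorem bIdeal_eq_bot_iff :
    (∀ m : M, m ≠ 1 → bIdeal Φ m = ⊥) ↔
      ∀ y : C, Φ y = algebraMap T (MonoidAlgebra T M) (Coalgebra.counit (R := T) y) := by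
  constructor
  · intro h y
    have hz : Φ y = MonoidAlgebra.single 1 ((Φ y).coeff 1) := by
      apply MonoidAlgebra.coeff_injective
      ext m
      rw [MonoidAlgebra.coeff_single, Finsupp.single_apply]
      by_cases hm : m = 1
      · subst hm
        rw [if_pos rfl]
      · rw [if_neg (Ne.symm hm)]
        have h1 := coeff_mem_bIdeal Φ ⟨y, rfl⟩ m
        rw [h m hm] at h1
        exact h1
    have hc : Coalgebra.counit (R := T) y = (Φ y).coeff 1 := by
      rw [← CoalgHomClass.counit_comp_apply Φ y]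
      conv_lhs => rw [hz]
      rw [MonoidAlgebra.counit_single, CommSemiring.counit_apply]
    rw [hc]
    exact hz
  · intro h m hm
    rw [eq_bot_iff]
    intro r hr
    obtain ⟨y, hy⟩ := (mem_bIdeal Φ m r).1 hr
    replace hy : Φ y = r • MonoidAlgebra.single m 1 := hy
    have h1 := congrArg (fun z : MonoidAlgebra T M => z.coeff m) ((h y).symm.trans hy)
    have h2 : algebraMap T (MonoidAlgebra T M) (Coalgebra.counit (R := T) y) =
        MonoidAlgebra.single 1 (Coalgebra.counit (R := T) y) := rfl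
    simp only [h2, MonoidAlgebra.coeff_single, MonoidAlgebra.coeff_smul, Finsupp.smul_apply,
      Finsupp.single_eq_same, smul_eq_mul, mul_one] at h1
    rw [Finsupp.single_apply, if_neg (Ne.symm hm)] at h1
    rw [Submodule.mem_bot]
    exact h1.symm

end Bot

section Point

variable {R : Type u} [CommRing R] {A : Type u} [CommRing A] [HopfAlgebra R A]
  {C : Type u} [CommRing C] [HopfAlgebra R C] (φ : C →ₐc[R] A)
  {T : Type u} [CommRing T] [Algebra R T] {M : Type u} [CommGroup M]
  (e : T ⊗[R] A ≃ₐc[T] MonoidAlgebra T M)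
  {ι : Type u} [Fintype ι] {ε : ι → T} {N : ι → Subgroup M}
  (hP : IsTypePartition (bIdeal (trivHom e φ)) ε N)

include hP in
/-- At a field-valued point of the `j`-th piece, the homomorphism is trivial iff `N j = ⊥`. -/
theorem bot_iff_of_point (K : Type u) [Field K] [Algebra R K] (t : T →+* K)
    (ht : ∀ r, t (algebraMap R T r) = algebraMap R K r) (j : ι) (hj : t (ε j) = 1) :
    N j = ⊥ ↔ IsTrivOver φ K := by
  let _ : Algebra T K := t.toAlgebra
  have : IsScalarTower R T K := IsScalarTower.of_algebraMap_eq fun r => (ht r).symm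
  have hP' := hP.bcTriv φ e K
  have hj' : algebraMap T K (ε j) = 1 := hj
  rw [← trivHom_eq_counit_iff φ (bcTriv K e), ← bIdeal_eq_bot_iff]
  constructor
  · intro hN m hm
    rw [eq_bot_iff]
    intro r' hr'
    have hmN : m ∉ N j := by
      rw [hN, Subgroup.mem_bot]
      exact hm
    have h1 := hP'.out j m hmN r' hr'
    rw [hj', one_mul] at h1
    rw [Submodule.mem_bot]
    exact h1
  · intro hb
    rw [eq_bot_iff]
    intro m hm
    rw [Subgroup.mem_bot]
    by_contra hm1
    have h1 := hP'.mem j m hm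
    rw [hb m hm1, Submodule.mem_bot, hj'] at h1
    exact one_ne_zero h1

end Point

section LocalMain

variable {R : Type u} [CommRing R] [IsLocalRing R] {A : Type u} [CommRing A] [HopfAlgebra R A]
  {C : Type u} [CommRing C] [HopfAlgebra R C] (φ : C →ₐc[R] A)

theorem isTrivOver_of_kills (hs : ∀ c : C, φ c - algebraMap R A (Coalgebra.counit (R := R) c) ∈
      Ideal.map (algebraMap R A) (IsLocalRing.maximalIdeal R))
    (K : Type u) [CommRing K] [Algebra R K]
    (hK : ∀ r ∈ IsLocalRing.maximalIdeal R, algebraMap R K r = 0) : IsTrivOver φ K := by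
  intro c
  rw [← sub_eq_zero, ← TensorProduct.tmul_sub]
  have hle : Ideal.map (algebraMap R A) (IsLocalRing.maximalIdeal R) ≤
      RingHom.ker (Algebra.TensorProduct.includeRight : A →ₐ[R] K ⊗[R] A) := by
    rw [Ideal.map_le_iff_le_comap]
    intro r hr
    rw [Ideal.mem_comap, RingHom.mem_ker, Algebra.TensorProduct.includeRight_apply,
      Algebra.algebraMap_eq_smul_one, ← TensorProduct.smul_tmul, ← Algebra.algebraMap_eq_smul_one,
      hK r hr, TensorProduct.zero_tmul]
  exact hle (hs c)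

theorem eq_counit_of_ff_local (T : Type u) [CommRing T] [Algebra R T] [Module.FaithfullyFlat R T]
    {M : Type u} [CommGroup M] (e : T ⊗[R] A ≃ₐc[T] MonoidAlgebra T M)
    (hC : Algebra.FiniteType R C)
    (hs : ∀ c : C, φ c - algebraMap R A (Coalgebra.counit (R := R) c) ∈
      Ideal.map (algebraMap R A) (IsLocalRing.maximalIdeal R)) (c : C) :
    φ c = algebraMap R A (Coalgebra.counit (R := R) c) := by
  have hft : Algebra.FiniteType T (T ⊗[R] C) := inferInstance
  obtain ⟨ι, _, ε, N, hP⟩ := exists_typePartition (trivHom e φ) hft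
  -- the closed point
  have hmT : Ideal.map (algebraMap R T) (IsLocalRing.maximalIdeal R) ≠ ⊤ := by
    intro htop
    have h1 := Ideal.comap_map_eq_self_of_faithfullyFlat (B := T) (IsLocalRing.maximalIdeal R)
    rw [htop, Ideal.comap_top] at h1
    exact (IsLocalRing.maximalIdeal.isMaximal R).ne_top h1.symm
  obtain ⟨𝔫, h𝔫, hle⟩ := Ideal.exists_le_maximal _ hmT
  let _ : Field (T ⧸ 𝔫) := Ideal.Quotient.field 𝔫
  have hkill : ∀ r ∈ IsLocalRing.maximalIdeal R, algebraMap R (T ⧸ 𝔫) r = 0 := by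
    intro r hr
    rw [IsScalarTower.algebraMap_apply R T (T ⧸ 𝔫)]
    exact Ideal.Quotient.eq_zero_iff_mem.2 (hle (Ideal.mem_map_of_mem _ hr))
  have htrivK : IsTrivOver φ (T ⧸ 𝔫) := isTrivOver_of_kills φ hs (T ⧸ 𝔫) hkill
  -- the piece containing the closed point
  have hex : ∃ j₀, Ideal.Quotient.mk 𝔫 (ε j₀) ≠ 0 := by
    by_contra hcon
    simp only [not_exists, not_not] at hcon
    have h1 : Ideal.Quotient.mk 𝔫 (∑ i, ε i) = 0 := by
      rw [map_sum]
      exact Finset.sum_eq_zero fun i _ => hcon i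
    rw [hP.sum, map_one] at h1
    exact one_ne_zero h1
  obtain ⟨j₀, hj₀⟩ := hex
  have hj₀1 : Ideal.Quotient.mk 𝔫 (ε j₀) = 1 := by
    have hid : Ideal.Quotient.mk 𝔫 (ε j₀) * Ideal.Quotient.mk 𝔫 (ε j₀) =
        Ideal.Quotient.mk 𝔫 (ε j₀) := by rw [← map_mul, (hP.idem j₀).eq]
    exact mul_left_cancel₀ hj₀ (hid.trans (mul_one _).symm)
  have hNj₀ : N j₀ = ⊥ :=
    (bot_iff_of_point φ e hP (T ⧸ 𝔫) (Ideal.Quotient.mk 𝔫) (fun r => rfl) j₀ hj₀1).2 htrivK
  -- the union of the trivial pieces descends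
  set F : Finset ι := Finset.univ.filter fun j => N j = ⊥ with hFdef
  have hFmem : ∀ j, j ∈ F ↔ N j = ⊥ := fun j => by simp [hFdef]
  have hsat : ∀ j ∈ F, ∀ k, k ∉ F → ε j ⊗ₜ[R] ε k = 0 ∧ ε k ⊗ₜ[R] ε j = 0 := by
    intro j hj k hk
    have hNj : N j = ⊥ := (hFmem j).1 hj
    have hNk : ¬ N k = ⊥ := fun h => hk ((hFmem k).2 h)
    constructor
    · by_contra hne
      obtain ⟨K, _, t, h1, h2⟩ := exists_point_of_tmul_ne_zero hP.idem j k hne
      let _ : Algebra R K := (t.comp (algebraMap R (T ⊗[R] T))).toAlgebra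
      have hc1 : ∀ r, (t.comp Algebra.TensorProduct.includeLeftRingHom) (algebraMap R T r) =
          algebraMap R K r := fun r => rfl
      have hc2 : ∀ r, (t.comp (Algebra.TensorProduct.includeRight : T →ₐ[R] T ⊗[R] T).toRingHom)
          (algebraMap R T r) = algebraMap R K r := by
        intro r
        change t ((1 : T) ⊗ₜ[R] algebraMap R T r) = t (algebraMap R T r ⊗ₜ[R] (1 : T))
        congr 1
        rw [Algebra.algebraMap_eq_smul_one, TensorProduct.smul_tmul]
      have e1 := bot_iff_of_point φ e hP K _ hc1 j h1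
      have e2 := bot_iff_of_point φ e hP K _ hc2 k h2
      exact hNk (e2.2 (e1.1 hNj))
    · by_contra hne
      obtain ⟨K, _, t, h1, h2⟩ := exists_point_of_tmul_ne_zero hP.idem k j hne
      let _ : Algebra R K := (t.comp (algebraMap R (T ⊗[R] T))).toAlgebra
      have hc1 : ∀ r, (t.comp Algebra.TensorProduct.includeLeftRingHom) (algebraMap R T r) =
          algebraMap R K r := fun r => rfl
      have hc2 : ∀ r, (t.comp (Algebra.TensorProduct.includeRight : T →ₐ[R] T ⊗[R] T).toRingHom)
          (algebraMap R T r) = algebraMap R K r := by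
        intro r
        change t ((1 : T) ⊗ₜ[R] algebraMap R T r) = t (algebraMap R T r ⊗ₜ[R] (1 : T))
        congr 1
        rw [Algebra.algebraMap_eq_smul_one, TensorProduct.smul_tmul]
      have e1 := bot_iff_of_point φ e hP K _ hc1 k h1
      have e2 := bot_iff_of_point φ e hP K _ hc2 j h2
      exact hNk (e1.2 (e2.1 hNj))
  obtain ⟨x, hx, hxidem⟩ := exists_descent_of_saturated (R₁ := R) hP.idem hP.orth hP.sum F hsat
  -- `x = 1` since `R` is local
  have hj₀F : j₀ ∈ F := (hFmem j₀).2 hNj₀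
  have hmulF : ε j₀ * ∑ j ∈ F, ε j = ε j₀ := by
    rw [Finset.mul_sum, Finset.sum_eq_single j₀]
    · exact (hP.idem j₀).eq
    · intro k _ hk
      exact hP.orth j₀ k (Ne.symm hk)
    · intro h
      exact absurd hj₀F h
  have hx1 : x = 1 := by
    rcases IsLocalRing.isUnit_or_isUnit_one_sub_self x with hu | hu
    · have h1 : x * x = x * 1 := by rw [hxidem.eq, mul_one]
      exact hu.mul_left_cancel h1
    · exfalso
      have h1 : (1 - x) * x = (1 - x) * 0 := by
        rw [sub_mul, one_mul, hxidem.eq, sub_self, mul_zero]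
      have h2 : x = 0 := hu.mul_left_cancel h1
      rw [h2, map_zero] at hx
      rw [← hx, mul_zero] at hmulF
      rw [← hmulF, map_zero] at hj₀
      exact hj₀ rfl
  rw [hx1, map_one] at hx
  -- hence all coefficient ideals vanish
  have hzero : ∀ k, k ∉ F → ε k = 0 := by
    intro k hk
    calc ε k = ε k * ∑ j ∈ F, ε j := by rw [← hx, mul_one]
      _ = 0 := by
        rw [Finset.mul_sum]
        refine Finset.sum_eq_zero fun j hj => hP.orth k j ?_
        rintro rfl
        exact hk hj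
  have hbot : ∀ m : M, m ≠ 1 → bIdeal (trivHom e φ) m = ⊥ := by
    intro m hm
    rw [eq_bot_iff]
    intro r hr
    rw [Submodule.mem_bot]
    calc r = (∑ j, ε j) * r := by rw [hP.sum, one_mul]
      _ = ∑ j, ε j * r := Finset.sum_mul _ _ _
      _ = 0 := by
        refine Finset.sum_eq_zero fun j _ => ?_
        by_cases hj : j ∈ F
        · refine hP.out j m ?_ r hr
          rw [(hFmem j).1 hj, Subgroup.mem_bot]
          exact hm
        · rw [hzero j hj, zero_mul]
  have htriv : IsTrivOver φ T :=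
    (trivHom_eq_counit_iff φ e).1 ((bIdeal_eq_bot_iff (trivHom e φ)).1 hbot)
  rw [← sub_eq_zero]
  apply (Module.FaithfullyFlat.one_tmul_eq_zero_iff R A (A := T) _).mp
  rw [TensorProduct.tmul_sub, htriv c, sub_self]

end LocalMain

section LocalConst

variable {R : Type u} [CommRing R] [IsLocalRing R] {A : Type u} [CommRing A] [HopfAlgebra R A]

/-- Over a local ring, multiplicative type implies constant type. -/
theorem isMultTypeConst_of_isLocalRing (h : IsMultType R A) : IsMultTypeConst R A := by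
  obtain ⟨s, hs, hloc⟩ := h
  have hex : ∃ f ∈ s, IsUnit f := by
    by_contra hne
    simp only [not_exists, not_and] at hne
    have h1 : Ideal.span s ≤ IsLocalRing.maximalIdeal R :=
      Ideal.span_le.2 fun f hf => (IsLocalRing.mem_maximalIdeal f).2 (hne f hf)
    rw [hs, top_le_iff] at h1
    exact (IsLocalRing.maximalIdeal.isMaximal R).ne_top h1
  obtain ⟨f, hf, hu⟩ := hex
  have H : Submonoid.powers f ≤ IsUnit.submonoid R := Submonoid.powers_le.2 hu
  let E : R ≃ₐ[R] Localization.Away f := IsLocalization.atUnits R (Submonoid.powers f) H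
  have : Module.FaithfullyFlat R (Localization.Away f) :=
    Module.FaithfullyFlat.of_linearEquiv R R E.symm.toLinearEquiv
  exact Groth.Agent.H9.MT.isMultTypeConst_of_faithfullyFlat (Localization.Away f) (hloc f hf)

variable {C : Type u} [CommRing C] [HopfAlgebra R C] (φ : C →ₐc[R] A)

/-- A homomorphism from a group of multiplicative type over a local ring to an affine group of
finite type which is trivial on the closed fibre is trivial. -/
theorem eq_counit_of_isLocalRing_ft (h : IsMultType R A) (hC : Algebra.FiniteType R C)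
    (hs : ∀ c : C, φ c - algebraMap R A (Coalgebra.counit (R := R) c) ∈
      Ideal.map (algebraMap R A) (IsLocalRing.maximalIdeal R)) (c : C) :
    φ c = algebraMap R A (Coalgebra.counit (R := R) c) := by
  obtain ⟨T, _, _, ff, M, _, ⟨e⟩⟩ := isMultTypeConst_of_isLocalRing h
  exact eq_counit_of_ff_local φ T e hC hs c

end LocalConst

end Groth.Agent.H9.MultT
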