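import Mathlib
import Groth.Prelude.Def_SGA3b
import Groth.Agent.Lib.Helper9.MultT.LocalRigid
import Groth.Agent.Lib.Helper9.MultT.Dense
import Groth.Agent.Lib.Helper9.MT.NilRigid

/-!
# Rigidity over a Noetherian local base
-/

set_option autoImplicit false
set_option linter.unusedSectionVars false

namespace Groth.Agent.H9.MultT

open TensorProduct SGA3b

universe u

section DenseGen

variable {R : Type u} [CommRing R] {A : Type u} [CommRing A] [HopfAlgebra R A]

/-- The kernels of the `n`-th power maps are schematically dense (any base). -/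
theorem eq_zero_of_forall_mem_torsionIdeal_ff (T : Type u) [CommRing T] [Algebra R T]
    [Module.FaithfullyFlat R T] {M : Type u} [CommGroup M] [Group.FG M]
    (e : T ⊗[R] A ≃ₐc[T] MonoidAlgebra T M) (x : A)
    (h : ∀ n : ℕ, 0 < n → x ∈ torsionIdeal R A n) : x = 0 := by
  apply (Module.FaithfullyFlat.one_tmul_eq_zero_iff R A (A := T) _).mp
  apply EquivLike.injective e
  rw [map_zero e]
  refine eq_zero_of_forall_mem_torsionIdeal 0 (Or.inl rfl)
    (fun h => absurd h Nat.not_prime_zero) _ ?_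
  intro n hn _
  exact map_mem_torsionIdeal (e : T ⊗[R] A →ₐc[T] MonoidAlgebra T M) n
    (one_tmul_mem_torsionIdeal T n (h n hn))

end DenseGen

section FiniteQuot

variable {R : Type u} [CommRing R] {A : Type u} [CommRing A] [HopfAlgebra R A]

theorem powConv_sub_counit_mem_map (T : Type u) [CommRing T] [Algebra R T] (n : ℕ)
    (z : T ⊗[R] A) :
    powConv T (T ⊗[R] A) n z - algebraMap T (T ⊗[R] A) (Coalgebra.counit (R := T) z) ∈
      (torsionIdeal R A n).map (Algebra.TensorProduct.includeRight : A →ₐ[R] T ⊗[R] A) := by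
  induction z using TensorProduct.induction_on with
  | zero => simp
  | add x y hx hy =>
    have h : powConv T (T ⊗[R] A) n (x + y) -
        algebraMap T (T ⊗[R] A) (Coalgebra.counit (R := T) (x + y)) =
        (powConv T (T ⊗[R] A) n x - algebraMap T (T ⊗[R] A) (Coalgebra.counit (R := T) x)) +
        (powConv T (T ⊗[R] A) n y - algebraMap T (T ⊗[R] A) (Coalgebra.counit (R := T) y)) := by
      rw [map_add, map_add, map_add]
      ring
    rw [h]
    exact add_mem hx hy
  | tmul t a =>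
    have h1 : powConv T (T ⊗[R] A) n (t ⊗ₜ[R] a) -
        algebraMap T (T ⊗[R] A) (Coalgebra.counit (R := T) (t ⊗ₜ[R] a)) =
        (t ⊗ₜ[R] (1 : A)) * (Algebra.TensorProduct.includeRight : A →ₐ[R] T ⊗[R] A)
          (powConv R A n a - algebraMap R A (Coalgebra.counit (R := R) a)) := by
      rw [Groth.Agent.H9.VF.powConv_tmul, TensorProduct.counit_tmul, CommSemiring.counit_apply,
        Algebra.TensorProduct.algebraMap_apply, Algebra.algebraMap_self_apply,
        Algebra.TensorProduct.includeRight_apply, Algebra.TensorProduct.tmul_mul_tmul, mul_one,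
        one_mul, TensorProduct.tmul_sub, TensorProduct.smul_tmul, ← Algebra.algebraMap_eq_smul_one]
    rw [h1]
    exact Ideal.mul_mem_left _ _ (Ideal.mem_map_of_mem _ (powConv_sub_mem_torsionIdeal n a))

theorem finite_quotient_torsionIdeal (T : Type u) [CommRing T] [Algebra R T]
    [Module.FaithfullyFlat R T] {M : Type u} [CommGroup M] [Group.FG M]
    (e : T ⊗[R] A ≃ₐc[T] MonoidAlgebra T M) (n : ℕ) (hn : 0 < n) :
    Module.Finite R (A ⧸ torsionIdeal R A n) := by
  set I := torsionIdeal R A n with hI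
  -- the map `T[M] → T ⊗ (A ⧸ I)`
  let g : MonoidAlgebra T M →ₐ[T] T ⊗[R] (A ⧸ I) :=
    (Algebra.TensorProduct.map (AlgHom.id T T) (Ideal.Quotient.mkₐ R I)).comp
      (e.symm : MonoidAlgebra T M →ₐ[T] T ⊗[R] A)
  have hgsurj : Function.Surjective g := by
    have h1 : Function.Surjective (Algebra.TensorProduct.map (AlgHom.id T T)
        (Ideal.Quotient.mkₐ R I)) :=
      Algebra.TensorProduct.map_surjective (f := AlgHom.id T T)
        (g := Ideal.Quotient.mkₐ R I) Function.surjective_id Ideal.Quotient.mk_surjective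
    intro y
    obtain ⟨x, rfl⟩ := h1 y
    exact ⟨e x, by change Algebra.TensorProduct.map _ _ (e.symm (e x)) = _; rw [e.symm_apply_apply]⟩
  have hker₁ : RingHom.ker (Algebra.TensorProduct.map (AlgHom.id T T) (Ideal.Quotient.mkₐ R I)) =
      I.map (Algebra.TensorProduct.includeRight : A →ₐ[R] T ⊗[R] A) := by
    have h := Algebra.TensorProduct.lTensor_ker (A := T) (Ideal.Quotient.mkₐ R I)
      Ideal.Quotient.mk_surjective
    have h' : RingHom.ker (Ideal.Quotient.mkₐ R I) = I := Ideal.Quotient.mkₐ_ker R I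
    rw [h'] at h
    exact h
  have hle : augIdeal T (powSubgroup M n) ≤ RingHom.ker g := by
    rw [augIdeal, Ideal.span_le]
    rintro _ ⟨_, ⟨y, rfl⟩, rfl⟩
    rw [SetLike.mem_coe, RingHom.mem_ker]
    have h1 : (MonoidAlgebra.single ((powMonoidHom n) y) 1 - 1 : MonoidAlgebra T M) =
        powConv T (MonoidAlgebra T M) n (MonoidAlgebra.single y 1 - 1) := by
      rw [map_sub, powConv_single, map_one]
      rfl
    set z := e.symm (MonoidAlgebra.single y 1 - 1) with hz
    have hcz : Coalgebra.counit (R := T) z = 0 := by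
      refine (CoalgHomClass.counit_comp_apply e.symm _).trans ?_
      rw [map_sub, MonoidAlgebra.counit_single, CommSemiring.counit_apply, Bialgebra.counit_one,
        sub_self]
    have h2 : e.symm (powConv T (MonoidAlgebra T M) n (MonoidAlgebra.single y 1 - 1)) =
        powConv T (T ⊗[R] A) n z :=
      (powConv_bialgHom_apply (e.symm : MonoidAlgebra T M →ₐc[T] T ⊗[R] A) n _).symm
    change Algebra.TensorProduct.map (AlgHom.id T T) (Ideal.Quotient.mkₐ R I)
      (e.symm (MonoidAlgebra.single ((powMonoidHom n) y) 1 - 1)) = 0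
    rw [h1, h2, ← RingHom.mem_ker, hker₁]
    have h3 := powConv_sub_counit_mem_map (R := R) (A := A) T n z
    rw [hcz, map_zero, sub_zero] at h3
    exact h3
  -- finiteness of `T[M ⧸ Mⁿ]`
  have hQ : Finite (M ⧸ powSubgroup M n) := by
    have htors : IsMulTorsion (M ⧸ powSubgroup M n) := fun c =>
      isOfFinOrder_iff_pow_eq_one.2 ⟨n, hn, pow_eq_one_quot n c⟩
    exact CommGroup.finite_of_fg_isMulTorsion _ htors
  have hfinQ : Module.Finite T (MonoidAlgebra T (M ⧸ powSubgroup M n)) :=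
    Module.Finite.equiv
      (MonoidAlgebra.coeffLinearEquiv (M := M ⧸ powSubgroup M n) (S := T) T).symm
  -- factor through the quotient
  have hπsurj := mapDomain_mk_surjective (T := T) (powSubgroup M n)
  let π : MonoidAlgebra T M →ₐ[T] MonoidAlgebra T (M ⧸ powSubgroup M n) :=
    (MonoidAlgebra.mapDomainBialgHom T (QuotientGroup.mk' (powSubgroup M n)) :
      MonoidAlgebra T M →ₐc[T] MonoidAlgebra T (M ⧸ powSubgroup M n))
  have hkerπ : RingHom.ker π = augIdeal T (powSubgroup M n) := ker_mapDomain_mk (powSubgroup M n)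
  have hfinT : Module.Finite T (T ⊗[R] (A ⧸ I)) := by
    have hle' : LinearMap.ker π.toLinearMap ≤ LinearMap.ker g.toLinearMap := by
      intro x hx
      have hx' : x ∈ RingHom.ker π := hx
      rw [hkerπ] at hx'
      exact hle hx'
    let gbar : MonoidAlgebra T (M ⧸ powSubgroup M n) →ₗ[T] T ⊗[R] (A ⧸ I) :=
      ((LinearMap.ker π.toLinearMap).liftQ g.toLinearMap hle').comp
        (π.toLinearMap.quotKerEquivOfSurjective hπsurj).symm.toLinearMap
    refine Module.Finite.of_surjective gbar ?_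
    intro y
    obtain ⟨x, rfl⟩ := hgsurj y
    refine ⟨π x, ?_⟩
    change (LinearMap.ker π.toLinearMap).liftQ g.toLinearMap hle'
      ((π.toLinearMap.quotKerEquivOfSurjective hπsurj).symm (π.toLinearMap x)) = g x
    have h1 : (π.toLinearMap.quotKerEquivOfSurjective hπsurj).symm (π.toLinearMap x) =
        Submodule.Quotient.mk x := by
      rw [LinearEquiv.symm_apply_eq]
      rfl
    rw [h1, Submodule.liftQ_apply]
    rfl
  exact Module.Finite.of_finite_tensorProduct_of_faithfullyFlat T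

end FiniteQuot

section Powers

variable {R : Type u} [CommRing R] [IsLocalRing R] {A : Type u} [CommRing A] [HopfAlgebra R A]
  {C : Type u} [CommRing C] [HopfAlgebra R C] (φ : C →ₐc[R] A)

/-- If `φ` is trivial modulo `𝔪`, it is trivial modulo every power of `𝔪`. -/
theorem sub_counit_mem_pow_smul (hA : IsMultTypeConst R A)
    (hs : ∀ c : C, φ c - algebraMap R A (Coalgebra.counit (R := R) c) ∈
      Ideal.map (algebraMap R A) (IsLocalRing.maximalIdeal R)) (k : ℕ) (c : C) :
    φ c - algebraMap R A (Coalgebra.counit (R := R) c) ∈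
      (IsLocalRing.maximalIdeal R ^ k) • (⊤ : Submodule R A) := by
  set 𝔞 : Ideal R := IsLocalRing.maximalIdeal R ^ k with h𝔞
  set I' : Ideal (R ⧸ 𝔞) := Ideal.map (Ideal.Quotient.mk 𝔞) (IsLocalRing.maximalIdeal R) with hI'
  have hnil : IsNilpotent I' := by
    refine ⟨k, ?_⟩
    rw [hI', ← Ideal.map_pow, ← h𝔞, Ideal.map_quotient_self]
    rfl
  have hA' : Groth.Agent.H9.MT.FFDiag.{u, u, u, u} (R ⧸ 𝔞) ((R ⧸ 𝔞) ⊗[R] A) := by
    obtain ⟨R', _, _, hff, M, _, ⟨E⟩⟩ := Groth.Agent.H9.MT.isMultTypeConst_baseChange (R ⧸ 𝔞) hA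
    exact ⟨R', inferInstance, inferInstance, hff, M, inferInstance, ⟨E⟩⟩
  let φ' : (R ⧸ 𝔞) ⊗[R] C →ₐc[R ⧸ 𝔞] (R ⧸ 𝔞) ⊗[R] A :=
    Bialgebra.TensorProduct.map (BialgHom.id (R ⧸ 𝔞) (R ⧸ 𝔞)) φ
  have hφ' : ∀ (r : R ⧸ 𝔞) (c : C), φ' (r ⊗ₜ[R] c) = r ⊗ₜ[R] φ c := fun _ _ => rfl
  have hmem : ∀ x ∈ Ideal.map (algebraMap R A) (IsLocalRing.maximalIdeal R), ∀ r : R ⧸ 𝔞,
      r ⊗ₜ[R] x ∈ I' • (⊤ : Submodule (R ⧸ 𝔞) ((R ⧸ 𝔞) ⊗[R] A)) := by
    intro x hx
    rw [Ideal.map] at hx
    induction hx using Submodule.span_induction with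
    | mem x hx =>
      obtain ⟨b, hb, rfl⟩ := hx
      intro r
      have h1 : r ⊗ₜ[R] algebraMap R A b = Ideal.Quotient.mk 𝔞 b • (r ⊗ₜ[R] (1 : A)) := by
        rw [Algebra.algebraMap_eq_smul_one, ← TensorProduct.smul_tmul, TensorProduct.smul_tmul',
          Algebra.smul_def]
        rfl
      rw [h1]
      exact Submodule.smul_mem_smul (Ideal.mem_map_of_mem _ hb) Submodule.mem_top
    | zero =>
      intro r
      rw [TensorProduct.tmul_zero]
      exact zero_mem _
    | add x y _ _ hx hy =>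
      intro r
      rw [TensorProduct.tmul_add]
      exact add_mem (hx r) (hy r)
    | smul a x _ hx =>
      intro r
      have h1 : r ⊗ₜ[R] (a • x) = ((1 : R ⧸ 𝔞) ⊗ₜ[R] a) * (r ⊗ₜ[R] x) := by
        rw [Algebra.TensorProduct.tmul_mul_tmul, one_mul, smul_eq_mul]
      rw [h1]
      exact Groth.Agent.H9.MT.mul_mem_smul_top' I' (hx r) _
  have h0 : ∀ y : (R ⧸ 𝔞) ⊗[R] C,
      φ' y - algebraMap (R ⧸ 𝔞) ((R ⧸ 𝔞) ⊗[R] A) (CoalgebraStruct.counit (R := R ⧸ 𝔞) y) ∈
        I' • (⊤ : Submodule (R ⧸ 𝔞) ((R ⧸ 𝔞) ⊗[R] A)) := by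
    intro y
    induction y using TensorProduct.induction_on with
    | zero => simp
    | add x y hx hy =>
      have h : φ' (x + y) - algebraMap (R ⧸ 𝔞) ((R ⧸ 𝔞) ⊗[R] A)
          (CoalgebraStruct.counit (R := R ⧸ 𝔞) (x + y)) =
          (φ' x - algebraMap (R ⧸ 𝔞) ((R ⧸ 𝔞) ⊗[R] A) (CoalgebraStruct.counit (R := R ⧸ 𝔞) x)) +
          (φ' y - algebraMap (R ⧸ 𝔞) ((R ⧸ 𝔞) ⊗[R] A) (CoalgebraStruct.counit (R := R ⧸ 𝔞) y)) := by
        rw [map_add, map_add, map_add]
        ring
      rw [h]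
      exact add_mem hx hy
    | tmul r c =>
      have h1 : φ' (r ⊗ₜ[R] c) - algebraMap (R ⧸ 𝔞) ((R ⧸ 𝔞) ⊗[R] A)
          (CoalgebraStruct.counit (R := R ⧸ 𝔞) (r ⊗ₜ[R] c)) =
          r ⊗ₜ[R] (φ c - algebraMap R A (Coalgebra.counit (R := R) c)) := by
        rw [hφ', TensorProduct.counit_tmul, CommSemiring.counit_apply,
          Algebra.TensorProduct.algebraMap_apply, Algebra.algebraMap_self_apply,
          TensorProduct.smul_tmul, ← Algebra.algebraMap_eq_smul_one, TensorProduct.tmul_sub]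
      rw [h1]
      exact hmem _ (hs c) r
  have h2 := Groth.Agent.H9.MT.eq_counit_of_ffDiag hnil hA' φ' h0 ((1 : R ⧸ 𝔞) ⊗ₜ[R] c)
  rw [hφ', TensorProduct.counit_tmul, CommSemiring.counit_apply,
    Algebra.TensorProduct.algebraMap_apply, Algebra.algebraMap_self_apply,
    TensorProduct.smul_tmul, ← Algebra.algebraMap_eq_smul_one] at h2
  exact Groth.Agent.H9.MT.mem_smul_top_of_tmul_eq R 𝔞 A _ _ h2

end Powers

section NoethMain

variable {R : Type u} [CommRing R] [IsLocalRing R] [IsNoetherianRing R]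
  {A : Type u} [CommRing A] [HopfAlgebra R A]
  {C : Type u} [CommRing C] [HopfAlgebra R C] (φ : C →ₐc[R] A)

/-- Rigidity over a Noetherian local base, for an arbitrary affine target group. -/
theorem eq_counit_of_isLocalRing_noeth (hft : Algebra.FiniteType R A) (h : IsMultType R A)
    (hs : ∀ c : C, φ c - algebraMap R A (Coalgebra.counit (R := R) c) ∈
      Ideal.map (algebraMap R A) (IsLocalRing.maximalIdeal R)) (c : C) :
    φ c = algebraMap R A (Coalgebra.counit (R := R) c) := by
  have hA := isMultTypeConst_of_isLocalRing h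
  obtain ⟨T, _, _, ff, M, _, ⟨e⟩⟩ := hA
  have hTnt : Nontrivial T := by
    by_contra hT
    rw [not_nontrivial_iff_subsingleton] at hT
    have h1 : (1 : R) = 0 := by
      apply FaithfulSMul.algebraMap_injective R T
      exact Subsingleton.elim _ _
    exact one_ne_zero h1
  have hftM : Algebra.FiniteType T (MonoidAlgebra T M) :=
    Algebra.FiniteType.equiv inferInstance (e : T ⊗[R] A ≃ₐ[T] MonoidAlgebra T M)
  have hfg : Group.FG M := MonoidAlgebra.finiteType_iff_group_fg.1 hftM
  rw [← sub_eq_zero]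
  refine eq_zero_of_forall_mem_torsionIdeal_ff T e _ fun n hn => ?_
  have hfin : Module.Finite R (A ⧸ torsionIdeal R A n) := finite_quotient_torsionIdeal T e n hn
  have hkrull := Ideal.iInf_pow_smul_eq_bot_of_isLocalRing (R := R)
    (M := A ⧸ torsionIdeal R A n) (IsLocalRing.maximalIdeal R)
    (IsLocalRing.maximalIdeal.isMaximal R).ne_top
  rw [← Ideal.Quotient.eq_zero_iff_mem, ← Submodule.mem_bot R, ← hkrull, Submodule.mem_iInf]
  intro k
  have h1 := sub_counit_mem_pow_smul φ ⟨T, inferInstance, inferInstance, ff, M, inferInstance, ⟨e⟩⟩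
    hs k c
  have h2 : Submodule.map (Ideal.Quotient.mkₐ R (torsionIdeal R A n)).toLinearMap
      ((IsLocalRing.maximalIdeal R ^ k) • (⊤ : Submodule R A)) ≤
      (IsLocalRing.maximalIdeal R ^ k) • (⊤ : Submodule R (A ⧸ torsionIdeal R A n)) := by
    rw [Submodule.map_smul'']
    exact Submodule.smul_mono le_rfl le_top
  exact h2 (Submodule.mem_map_of_mem h1)

end NoethMain

end Groth.Agent.H9.MultT
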