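import Mathlib
import Groth.Prelude.Def_SGA3b
import Groth.Agent.Lib.Helper9.MultT.LocalNoeth

/-!
# Rigidity over a local base, commutative target: two homomorphisms agreeing on the closed fibre
-/

set_option autoImplicit false
set_option linter.unusedSectionVars false

namespace Groth.Agent.H9.MultT

open TensorProduct SGA3b WithConv

universe u

section Conv

variable {R : Type u} [CommRing R] {A : Type u} [CommRing A] [HopfAlgebra R A]
  {C : Type u} [CommRing C] [HopfAlgebra R C] [Coalgebra.IsCocomm R C]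

/-- If every homomorphism congruent to the trivial one modulo the ideal `𝔍` is trivial, then two
homomorphisms congruent modulo `𝔍` are equal. -/
theorem eq_of_trivial_criterion (𝔍 : Ideal A)
    (hcrit : ∀ χ : C →ₐc[R] A,
      (∀ c : C, χ c - algebraMap R A (Coalgebra.counit (R := R) c) ∈ 𝔍) →
        ∀ c : C, χ c = algebraMap R A (Coalgebra.counit (R := R) c))
    (φ ψ : C →ₐc[R] A) (h0 : ∀ c : C, φ c - ψ c ∈ 𝔍) : φ = ψ := by
  let χ : C →ₐc[R] A := (toConv φ * toConv (ψ.comp Groth.Agent.H9.MT.antipodeBialgHom)).ofConv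
  have hχ : ∀ c : C, χ c = ∑ i ∈ (Coalgebra.Repr.arbitrary R c).index,
      φ ((Coalgebra.Repr.arbitrary R c).left i) *
        ψ (HopfAlgebra.antipode R ((Coalgebra.Repr.arbitrary R c).right i)) := by
    intro c
    exact (Coalgebra.Repr.arbitrary R c).convMul_apply (toConv φ.toLinearMap)
      (toConv (ψ.comp Groth.Agent.H9.MT.antipodeBialgHom).toLinearMap)
  have h1 : ∀ c : C, χ c - algebraMap R A (Coalgebra.counit (R := R) c) ∈ 𝔍 := by
    intro c
    have h2 : algebraMap R A (Coalgebra.counit (R := R) c) =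
        ∑ i ∈ (Coalgebra.Repr.arbitrary R c).index,
          ψ ((Coalgebra.Repr.arbitrary R c).left i) *
            ψ (HopfAlgebra.antipode R ((Coalgebra.Repr.arbitrary R c).right i)) := by
      have h3 := congrArg ψ
        (HopfAlgebra.sum_mul_antipode_eq_algebraMap_counit (Coalgebra.Repr.arbitrary R c))
      rw [AlgHomClass.commutes, map_sum] at h3
      rw [← h3]
      refine Finset.sum_congr rfl fun i _ => ?_
      rw [map_mul]
    rw [hχ, h2, ← Finset.sum_sub_distrib]
    refine Ideal.sum_mem _ fun i _ => ?_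
    rw [← sub_mul]
    exact Ideal.mul_mem_right _ _ (h0 _)
  have h3 := hcrit χ h1
  have h4 : toConv (φ : C →ₐ[R] A) * (toConv (ψ : C →ₐ[R] A))⁻¹ = 1 := by
    apply WithConv.ofConv_injective
    apply AlgHom.ext
    intro c
    exact h3 c
  have h5 := mul_inv_eq_one.mp h4
  apply BialgHom.ext
  intro c
  exact congrArg (fun f : WithConv (C →ₐ[R] A) => f.ofConv c) h5

end Conv

section Local

variable {R : Type u} [CommRing R] [IsLocalRing R] {A : Type u} [CommRing A] [HopfAlgebra R A]
  {C : Type u} [CommRing C] [HopfAlgebra R C] [Coalgebra.IsCocomm R C]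

theorem eq_of_isLocalRing_ft (h : IsMultType R A) (hC : Algebra.FiniteType R C)
    (φ ψ : C →ₐc[R] A)
    (hs : ∀ c : C, φ c - ψ c ∈ Ideal.map (algebraMap R A) (IsLocalRing.maximalIdeal R)) :
    φ = ψ :=
  eq_of_trivial_criterion _ (fun χ hχ => eq_counit_of_isLocalRing_ft χ h hC hχ) φ ψ hs

theorem eq_of_isLocalRing_noeth [IsNoetherianRing R] (hft : Algebra.FiniteType R A)
    (h : IsMultType R A) (φ ψ : C →ₐc[R] A)
    (hs : ∀ c : C, φ c - ψ c ∈ Ideal.map (algebraMap R A) (IsLocalRing.maximalIdeal R)) :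
    φ = ψ :=
  eq_of_trivial_criterion _ (fun χ hχ => eq_counit_of_isLocalRing_noeth χ hft h hχ) φ ψ hs

end Local

end Groth.Agent.H9.MultT
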