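import Mathlib
import Groth.Prelude.Def_SGA3b
import Groth.Agent.Lib.Helper9.MultT.KerCore

/-!
# The kernel of a homomorphism from a group of multiplicative type to an affine group of finite
type is of multiplicative type
-/

set_option autoImplicit false
set_option linter.unusedSectionVars false

namespace Groth.Agent.H9.MultT

open TensorProduct SGA3b

universe u

section Main

variable {R : Type u} [CommRing R] {A : Type u} [CommRing A] [HopfAlgebra R A]
  {C : Type u} [CommRing C] [HopfAlgebra R C] (φ : C →ₐc[R] A)
  (J : Ideal A) [J.IsHopfIdeal R] (hJ : J = Ideal.map φ (RingHom.ker (Bialgebra.counitAlgHom R C)))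

/-- The set of `h` such that `A ⧸ J` is diagonalisable over a faithfully flat `R_h`-algebra. -/
def diagSet : Set R :=
  {h : R | ∃ (T' : Type u) (_ : CommRing T') (_ : Algebra R T'),
    IsFFOver h T' ∧ IsDiag T' (T' ⊗[R] (A ⧸ J))}

include hJ in
theorem exists_pow_mem_span_diagSet (hC : Algebra.FiniteType R C) (f : R)
    (T : Type u) [CommRing T] [Algebra R T] (hT : IsFFOver f T)
    {M : Type u} [CommGroup M] (e : T ⊗[R] A ≃ₐc[T] MonoidAlgebra T M) :
    ∃ n : ℕ, f ^ n ∈ Ideal.span (diagSet J) := by
  obtain ⟨alg, tower, ff⟩ := hT
  obtain ⟨ι, _, ebar, N, hspan, hidem, hmain⟩ :=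
    exists_descended_partition φ J hJ (R₁ := Localization.Away f) e hC
  have hclaim : ∀ i, ebar i ∈ (Ideal.span (diagSet J)).map (algebraMap R (Localization.Away f)) := by
    intro i
    obtain ⟨⟨a, ⟨_, n, rfl⟩⟩, ha⟩ := IsLocalization.surj (Submonoid.powers f) (ebar i)
    replace ha : ebar i * algebraMap R (Localization.Away f) (f ^ n) =
      algebraMap R (Localization.Away f) a := ha
    have hfa : f * a ∈ diagSet J := by
      have hu0 : IsUnit (algebraMap R (Localization.Away (f * a)) (f * a)) :=
        IsLocalization.Away.algebraMap_isUnit (f * a)
      rw [map_mul] at hu0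
      have hu : IsUnit (algebraMap R (Localization.Away (f * a)) f) :=
        isUnit_of_mul_isUnit_left hu0
      have hua : IsUnit (algebraMap R (Localization.Away (f * a)) a) :=
        isUnit_of_mul_isUnit_right hu0
      let _ : Algebra (Localization.Away f) (Localization.Away (f * a)) :=
        (IsLocalization.Away.lift f hu).toAlgebra
      have : IsScalarTower R (Localization.Away f) (Localization.Away (f * a)) :=
        IsScalarTower.of_algebraMap_eq fun x => (IsLocalization.Away.lift_eq f hu x).symm
      let _ : Algebra T (Localization.Away (f * a) ⊗[Localization.Away f] T) :=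
        Algebra.TensorProduct.rightAlgebra
      have hx1 : algebraMap (Localization.Away f) (Localization.Away (f * a)) (ebar i) = 1 := by
        have h1 : algebraMap (Localization.Away f) (Localization.Away (f * a)) (ebar i) *
            algebraMap (Localization.Away f) (Localization.Away (f * a))
              (algebraMap R (Localization.Away f) (f ^ n)) =
            algebraMap R (Localization.Away (f * a)) a := by
          rw [← map_mul, ha, ← IsScalarTower.algebraMap_apply]
        have h2 : IsUnit (algebraMap (Localization.Away f) (Localization.Away (f * a)) (ebar i)) := by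
          rw [← h1] at hua
          exact isUnit_of_mul_isUnit_left hua
        have h3 : algebraMap (Localization.Away f) (Localization.Away (f * a)) (ebar i) *
            algebraMap (Localization.Away f) (Localization.Away (f * a)) (ebar i) =
            1 * algebraMap (Localization.Away f) (Localization.Away (f * a)) (ebar i) := by
          rw [← map_mul, (hidem i).eq, one_mul]
        exact h2.mul_left_inj.1 h3
      have tower2 : IsScalarTower R T (Localization.Away (f * a) ⊗[Localization.Away f] T) := by
        refine IsScalarTower.of_algebraMap_eq fun r => ?_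
        change algebraMap R (Localization.Away (f * a) ⊗[Localization.Away f] T) r =
          (1 : Localization.Away (f * a)) ⊗ₜ[Localization.Away f] algebraMap R T r
        rw [Algebra.TensorProduct.algebraMap_apply,
          IsScalarTower.algebraMap_apply R (Localization.Away f) (Localization.Away (f * a)),
          IsScalarTower.algebraMap_apply R (Localization.Away f) T,
          Algebra.algebraMap_eq_smul_one, Algebra.algebraMap_eq_smul_one (A := T),
          TensorProduct.smul_tmul]
      refine ⟨Localization.Away (f * a) ⊗[Localization.Away f] T, inferInstance, inferInstance,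
        ⟨inferInstance, inferInstance, inferInstance⟩, M ⧸ N i, inferInstance, ?_⟩
      refine hmain i (Localization.Away (f * a) ⊗[Localization.Away f] T) ?_
      change (1 : Localization.Away (f * a)) ⊗ₜ[Localization.Away f]
        algebraMap (Localization.Away f) T (ebar i) = 1
      rw [Algebra.algebraMap_eq_smul_one, ← TensorProduct.smul_tmul,
        ← Algebra.algebraMap_eq_smul_one, hx1]
      rfl
    have h1 : algebraMap R (Localization.Away f) (f * a) ∈
        (Ideal.span (diagSet J)).map (algebraMap R (Localization.Away f)) :=
      Ideal.mem_map_of_mem _ (Ideal.subset_span hfa)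
    have hunit : IsUnit (algebraMap R (Localization.Away f) (f * f ^ n)) := by
      rw [← pow_succ']
      rw [map_pow]
      exact (IsLocalization.Away.algebraMap_isUnit f).pow _
    have h2 : algebraMap R (Localization.Away f) (f * a) =
        algebraMap R (Localization.Away f) (f * f ^ n) * ebar i := by
      rw [map_mul, ← ha, map_mul]
      ring
    rw [h2] at h1
    exact (Ideal.unit_mul_mem_iff_mem _ hunit).1 h1
  have htop : (Ideal.span (diagSet J)).map (algebraMap R (Localization.Away f)) = ⊤ := by
    rw [eq_top_iff, ← hspan, Ideal.span_le]
    rintro _ ⟨i, rfl⟩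
    exact hclaim i
  have h1 : algebraMap R (Localization.Away f) 1 ∈
      (Ideal.span (diagSet J)).map (algebraMap R (Localization.Away f)) := by
    rw [htop]
    exact Submodule.mem_top
  rw [IsLocalization.algebraMap_mem_map_algebraMap_iff (Submonoid.powers f)] at h1
  obtain ⟨_, ⟨n, rfl⟩, hn⟩ := h1
  exact ⟨n, by simpa using hn⟩

include hJ in
/-- The kernel of a homomorphism from a group of multiplicative type to an affine group of finite
type is of multiplicative type. -/
theorem isMultType_ker (h : IsMultType R A) (hC : Algebra.FiniteType R C) :
    IsMultType R (A ⧸ J) := by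
  obtain ⟨s, hs, hloc⟩ := exists_cover_of_isMultType h
  refine isMultType_of_cover ⟨diagSet J, ?_, fun h hh => hh⟩
  rw [← Ideal.radical_eq_top, eq_top_iff, ← hs, Ideal.span_le]
  intro f hf
  obtain ⟨T, _, _, hT, M, _, ⟨e⟩⟩ := hloc f hf
  exact exists_pow_mem_span_diagSet φ J hJ hC f T hT e

end Main

end Groth.Agent.H9.MultT
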